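/-
The permutation model of the Rudvalis group on 4060 points: stabiliser chain and Tits subgroup.
-/
import Cfsg.Agent.Lib.Comp.Rux.Main
import Cfsg.Agent.Lib.Comp.Titsx.Main
import Cfsg.Agent.Lib.Comp.Subst2
import Cfsg.Agent.Lib.Comp.Fin

set_option autoImplicit false
set_option maxRecDepth 100000

namespace Cfsg.Lib.RuM

open Subgroup Cfsg.Lib.Comp Cfsg.Lib.Comp.Rux

/-- all letters. -/
def M0 : List ℕ := [1,2,3,4,5,6,7,8,9,10,11,12,13,14,15,16,64,65,66,67,68,69,70,71]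
/-- letters of the point stabiliser. -/
def M1 : List ℕ := [1,2,3,4,5,6,7,8,9,10,11,12,13,14,15,64,65,66,67,68,69,70,71]
/-- letters of the two point stabiliser. -/
def M2 : List ℕ := [64,65,66,67,68,69,70,71]
/-- letters of the three point stabiliser. -/
def M3 : List ℕ := [68,69,70,71]

/-- the stabiliser chain. -/
def ch : List Lev := [(M1,[16,13,64,66,68,70,12,8,66,16,68,64,2,70,16,64,1],0,0,4060),
 (M2,[1,2,3,4,5,6,8,13,66,14,68,64,10,1],1,1,2304),
 (M3,[64,66,64,68,70,66,64,68,70,66,64,70,68,64],2,2,975),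
 ([],[68,70,68,70,68],1655,1655,16)]

theorem cl_M0 : cl (gp nets) M0 = cl (gp nets) L := by
  rw [show M0 = L ++ slp.map (·.1) by decide +kernel]
  exact cl_eq_of_slpB nets_ok (by norm_num) slp_ok

theorem exact : Exact nets ch M0 :=
  exact_of_beq (n := 145926144000) (by rw [cl_M0, card]) (by decide +kernel)

theorem base : IsBase (cl (gp nets) L) [0, 1, 2, 1655] := cl_M0 ▸ exact.isBase nets_ok

/-- point images. -/
noncomputable def tb : ℕ → ℕ → ℕ := tbx 4096 (tbk 12 4 prs12 nets 256)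

theorem htb : TbA nets tb := tbA_tbx nets_ok (tbk_eq tr12 (by norm_num) (by norm_num) (by norm_num) nets_ok)

theorem mem0 {x : ℕ} (hx : x ∈ M0) : gp nets x ∈ cl (gp nets) L := cl_M0 ▸ mem_cl hx

theorem fx {g : Equiv.Perm ℕ} (hg : g ∈ cl (gp nets) L) : Fx 4060 g := by
  have b := simpleB
  simp only [cnd_tt] at b
  exact fx_of_fxB nets_ok (by norm_num) (by norm_num) b.2.1 hg

theorem stab0 : (∀ g ∈ cl (gp nets) L, g 0 = 0 ↔ g ∈ cl (gp nets) M1) ∧ Nat.card (cl (gp nets) M1) = 35942400 := by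
  obtain ⟨-, -, a, -, -, b⟩ := exact.cons nets_ok
  rw [cl_M0, card] at b
  exact ⟨cl_M0 ▸ a, by omega⟩

theorem trans0 {p : ℕ} (hp : p < 4060) : ∃ g ∈ cl (gp nets) L, g 0 = p := by
  obtain ⟨-, -, -, -, a, -⟩ := exact.cons nets_ok
  exact cl_M0 ▸ a p (Nat.zero_le _) (by omega)

/-- the letters of the Tits subgroup. -/
def VT : List (List ℕ) := [[], [1], [2], [3], [4], [5], [6], [7], [8], [9], [10], [11], [12], [13]]

theorem VT_sub : allL VT (fun w => subB w L) = true := by decide +kernel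

theorem sv_VT {x : ℕ} (hx : x ∈ Titsx.L) : sv (gp nets) VT x = gp nets x := by
  rw [sv, show nth [] VT x = [x] by revert x; decide +kernel, ev_single]

theorem tits : ∃ e : cl (gp Titsx.nets) Titsx.L ≃* cl (gp nets) Titsx.L, ∀ (w : List ℕ) (hw : ∀ x ∈ w, x ∈ Titsx.L),
    (e ⟨ev (gp Titsx.nets) w, ev_mem fun x hx => mem_cl (hw x hx)⟩ : Equiv.Perm ℕ) = ev (gp nets) w := by
  obtain ⟨e, he⟩ := embed_of_rels Titsx.simple Titsx.nets_iv Titsx.nets_rel Titsx.ord Titsx.lb
    (siv base htb (fun _ => mem_cl) VT_sub (by decide +kernel))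
    (srels base htb (fun _ => mem_cl) VT_sub (by decide +kernel)) (x := 13) (by decide)
    (sv_ne htb (p := 1) (by decide +kernel))
  have h : cl (sv (gp nets) VT) Titsx.L = cl (gp nets) Titsx.L :=
    le_antisymm (cl_le.2 fun x hx => sv_VT hx ▸ mem_cl hx) (cl_le.2 fun x hx => sv_VT hx ▸ mem_cl hx)
  exact ⟨e.trans (MulEquiv.subgroupCongr h), fun w hw =>
    (he w hw).trans (ev_congr _ fun x hx => sv_VT (hw x hx))⟩

theorem tits_le : cl (gp nets) Titsx.L ≤ cl (gp nets) M1 := cl_mono (by decide)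

theorem M1_le : cl (gp nets) M1 ≤ cl (gp nets) L := cl_M0 ▸ cl_mono (by decide)

end Cfsg.Lib.RuM
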