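/-
The lattice is spanned by the 4060 lines; the permutation group lifts to the lattice.
-/
import Cfsg.Agent.Lib.Ru.Par
import Cfsg.Agent.Lib.Ru.Gen0
import Cfsg.Agent.Lib.Ru.Gen1
import Cfsg.Agent.Lib.Ru.Gen2
import Cfsg.Agent.Lib.Ru.Gen3

set_option autoImplicit false
set_option maxRecDepth 100000

namespace Cfsg.Lib.RuL

open Finset Cfsg.Spor Cfsg.Lib.Comp Cfsg.Lib.Rfn

/-- the chosen vector on a line. -/
noncomputable def vec (p : ℕ) : RuVec := vecT (cT p)

theorem vec_code {p : ℕ} (hp : p < 4060) : codeB (cT p) = true := allR_sound codes (Nat.zero_le _) hp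

theorem vec_norm {p : ℕ} (hp : p < 4060) : ruNorm (vec p) = 16 := (of_codeB (vec_code hp)).2

theorem of_mapsB {ψ : List ℕ} {K : ℕ} {σ : ℕ → ℕ} (h : mapsB ψ K σ = true) :
    (∀ x, ruNorm (lmap ψ x) = 16 * ruNorm x) ∧
      ∀ p < 4060, σ p < 4060 ∧ ∃ k : ℕ, lmap ψ (vec p) = (4 : GaussianInt) • gI ^ k • vec (σ p) := by
  rw [mapsB, cnd_tt] at h
  refine ⟨(of_genB h.1).1, fun p hp => ?_⟩
  have := allR_sound h.2 (Nat.zero_le _) hp
  rw [force_eq, cnd_tt, ble_tt, forceH_eq, forceH_eq] at this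
  have h1 : σ p < 4060 := by omega
  exact ⟨h1, of_mapB h.1 (vec_code hp) (vec_code h1) this.2⟩

theorem lmap_eq {ψ : List ℕ} (R : RuVec →ₗ[GaussianInt] RuVec) (h : ∀ k p, frm ψ k p = R (Pi.single k 4) p)
    (x : RuVec) : lmap ψ x = (4 : GaussianInt) • R x := by
  rw [lmap, Fintype.linearCombination_apply, ← map_smul]
  simp only [funext (h _), ← map_smul, ← map_sum]
  congr 1
  funext p
  simp [Finset.sum_apply, Pi.single_apply, mul_comm]

/-- the monomial maps. -/
def mon (i : ℕ) : RuVec → RuVec := if i = 0 then ruRj else if i = 1 then ruRk else if i = 2 then ruSign else ruShift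

/-- the monomial maps are linear. -/
def monL (i : ℕ) : RuVec →ₗ[GaussianInt] RuVec where
  toFun := mon i
  map_add' x y := by
    funext ⟨n, t⟩
    unfold mon
    split_ifs
    · fin_cases t <;> simp [ruRj, mul_add, add_comm]
    · fin_cases t <;> simp [ruRk, mul_add, add_comm]
    · simp only [ruSign, Pi.add_apply]; split_ifs <;> ring
    · rfl
  map_smul' c x := by
    funext ⟨n, t⟩
    unfold mon
    split_ifs
    · fin_cases t <;> simp [ruRj, mul_left_comm]
    · fin_cases t <;> simp [ruRk, mul_left_comm]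
    · simp only [ruSign, Pi.smul_apply, smul_eq_mul, RingHom.id_apply]; split_ifs <;> ring
    · rfl

theorem mon_mem (i : ℕ) {x : RuVec} (hx : x ∈ ruLattice) : mon i x ∈ ruLattice := by
  rw [ruLattice, AddSubgroup.mem_sInf] at hx ⊢
  intro L hL
  obtain ⟨-, a, b, c, d⟩ := hL.2 x (hx L hL)
  unfold mon
  split_ifs <;> assumption

theorem mon_vec {i : ℕ} (hi : i < 4) : (∀ x, ruNorm (mon i x) = ruNorm x) ∧
    ∀ p < 4060, sgs i p < 4060 ∧ ∃ k : ℕ, mon i (vec p) = gI ^ k • vec (sgs i p) := by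
  have key : ∀ {ψ : List ℕ} {K : ℕ}, mapsB ψ K (sgs i) = true → (∀ k p, frm ψ k p = mon i (Pi.single k 4) p) →
      (∀ x, ruNorm (mon i x) = ruNorm x) ∧
      ∀ p < 4060, sgs i p < 4060 ∧ ∃ k : ℕ, mon i (vec p) = gI ^ k • vec (sgs i p) := fun h h' => by
    obtain ⟨a, b⟩ := of_mapsB h
    simp only [lmap_eq (monL i) h'] at a b
    refine ⟨fun x => ?_, fun p hp => ⟨(b p hp).1, (b p hp).2.imp fun k => four_inj⟩⟩
    have := a x
    rw [norm_smul', show (4 : GaussianInt).norm = 16 by decide] at this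
    change ruNorm (monL i x) = _
    omega
  interval_cases i
  · exact key pm0_ok (by decide +kernel)
  · exact key pm1_ok (by decide +kernel)
  · exact key pm2_ok (by decide +kernel)
  · exact key pm3_ok (by decide +kernel)

theorem table_eq : ruTable = roots.map vec := by decide +kernel

theorem vec_mem {p : ℕ} (hp : p < 4060) : vec p ∈ ruLattice := by
  induction h : dep p using Nat.strong_induction_on generalizing p with | _ n ih => ?_
  subst h
  have := allR_sound tree (Nat.zero_le _) hp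
  rw [cnd_eq] at this
  split_ifs at this with h1
  · rcases List.mem_cons.1 (sub_of_subB h1 p List.mem_cons_self) with rfl | h2
    · rw [show vec 31 = gI ^ 3 • vec 1055 + vec 3048 + gI ^ 2 • vec 10 + gI ^ 3 • vec 990 by decide +kernel]
      have a : ∀ q < 4060, dep q < dep 31 → vec q ∈ ruLattice := fun q hq h => ih _ h hq rfl
      exact add_mem (add_mem (add_mem (unit_mem _ (a _ (by norm_num) (by decide +kernel)))
        (a _ (by norm_num) (by decide +kernel))) (unit_mem _ (a _ (by norm_num) (by decide +kernel))))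
        (unit_mem _ (a _ (by norm_num) (by decide +kernel)))
    · rw [ruLattice, AddSubgroup.mem_sInf]
      exact fun L hL => hL.1 _ (table_eq ▸ List.mem_map_of_mem h2)
  · rw [force_eq, force_eq, cnd_tt, cnd_tt, ble_tt, ble_tt, beq_tt] at this
    have h2 : prt p < 4060 := by omega
    obtain ⟨-, k, e⟩ := (mon_vec (i := pmp p) (Nat.lt_succ_of_le Nat.and_le_right)).2 _ h2
    rw [this.2.1] at e
    rw [smul_swap e]
    exact unit_mem _ (mon_mem _ (ih _ this.2.2 h2 rfl))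

theorem le_gens {K : AddSubgroup RuVec} (h : ∀ p < 4060, ∀ k : ℕ, gI ^ k • vec p ∈ K) : ruLattice ≤ K := by
  let S : Set RuVec := {x | ∃ p < 4060, ∃ k : ℕ, x = gI ^ k • vec p}
  have key : ∀ R : RuVec →ₗ[GaussianInt] RuVec, (∀ p < 4060, ∃ q < 4060, ∃ k : ℕ, R (vec p) = gI ^ k • vec q) →
      ∀ v ∈ AddSubgroup.closure S, R v ∈ AddSubgroup.closure S := fun R hR =>
    (AddSubgroup.closure_le ((AddSubgroup.closure S).comap R.toAddMonoidHom)).2 (by
      rintro _ ⟨p, hp, k, rfl⟩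
      obtain ⟨q, hq, l, e⟩ := hR p hp
      exact AddSubgroup.subset_closure ⟨q, hq, k + l, by simp [e, smul_smul, pow_add]⟩)
  have k2 : ∀ i < 4, ∀ v ∈ AddSubgroup.closure S, mon i v ∈ AddSubgroup.closure S := fun i hi =>
    key (monL i) fun p hp => ⟨_, ((mon_vec hi).2 p hp).1, ((mon_vec hi).2 p hp).2⟩
  refine (sInf_le (s := ruClosed) (a := AddSubgroup.closure S) ⟨fun v hv => ?_, fun v hv => ⟨key (gI • LinearMap.id)
    (fun p hp => ⟨p, hp, 1, by simp⟩) v hv, k2 0 (by norm_num) v hv, k2 1 (by norm_num) v hv, k2 2 (by norm_num) v hv,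
      k2 3 (by norm_num) v hv⟩⟩).trans ((AddSubgroup.closure_le _).2 ?_)
  · obtain ⟨p, hp, rfl⟩ := List.mem_map.1 (table_eq ▸ hv)
    exact AddSubgroup.subset_closure ⟨p, by revert p; decide, 0, by simp⟩
  · rintro _ ⟨p, hp, k, rfl⟩
    exact h p hp k

/-- the permutation group. -/
noncomputable abbrev HH : Subgroup (Equiv.Perm ℕ) := cl (gp Rux.nets) Rux.L

/-- `f` induces `g` on the lines. -/
def Lift (f : fourRu) (g : Equiv.Perm ℕ) : Prop := ∀ p < 4060, ∃ k : ℕ, act f (vec p) = gI ^ k • vec (g p)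

theorem Lift.mul {f f' : fourRu} {g g' : Equiv.Perm ℕ} (h : Lift f g) (h' : Lift f' g') (hg : Fx 4060 g') :
    Lift (f * f') (g * g') := fun p hp => by
  obtain ⟨k, e⟩ := h' p hp
  obtain ⟨l, e'⟩ := h _ (hg.lt hp)
  exact ⟨k + l, by rw [act_mul _ _ (vec_mem hp), e, act_unit _ _ (vec_mem (hg.lt hp)), e', smul_smul, pow_add]; rfl⟩

theorem Lift.inv {f : fourRu} {g : Equiv.Perm ℕ} (h : Lift f g) (hg : Fx 4060 g) : Lift f⁻¹ g⁻¹ := fun p hp => by
  obtain ⟨k, e⟩ := h _ (hg.inv.lt hp)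
  rw [app_inv] at e
  exact ⟨3 * k, by rw [smul_swap e, act_unit _ _ (act_mem _ (vec_mem (hg.inv.lt hp))), act_inv _ (vec_mem (hg.inv.lt hp))]⟩

theorem lift_of_mapsB {x : ℕ} (hx : x ∈ Rux.L) {ψ : List ℕ} {K : ℕ} (h : mapsB ψ K (RuM.tb x) = true) :
    ∃ f, Lift f (gp Rux.nets x)⁻¹ := by
  obtain ⟨a, b⟩ := of_mapsB h
  have hg := RuM.fx (mem_cl hx)
  simp only [RuM.htb x] at b
  let F : RuVec →+ RuVec := DistribSMul.toAddMonoidHom RuVec (4 : GaussianInt)
  obtain ⟨f, hf⟩ := exists_aut (lmap ψ) a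
    (fun y hy => by
      obtain ⟨z, hz, e⟩ := le_gens (K := (ruLattice.map F).comap (lmap ψ).toAddMonoidHom) (fun p hp k => by
        obtain ⟨c, l, e⟩ := b p hp
        exact ⟨gI ^ k • gI ^ l • vec _, unit_mem _ (unit_mem _ (vec_mem c)), by simp [F, e, smul_comm (gI ^ k)]⟩) hy
      exact ⟨z, hz, e.symm⟩)
    (fun y hy => le_gens (K := (ruLattice.map (lmap ψ).toAddMonoidHom).comap F) (fun p hp k => by
        obtain ⟨c, l, e⟩ := b _ (hg.lt hp)
        rw [inv_app, smul_comm] at e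
        exact ⟨gI ^ k • gI ^ (3 * l) • vec _, unit_mem _ (unit_mem _ (vec_mem (hg.lt hp))), by
          change lmap ψ _ = (4 : GaussianInt) • _
          rw [map_smul, map_smul, ← smul_swap e, smul_comm]⟩) hy)
  exact ⟨f, fun p hp => (b p hp).2.imp fun k e => four_inj ((hf _ (vec_mem hp)).symm.trans e)⟩

theorem exists_lift {g : Equiv.Perm ℕ} (hg : g ∈ HH) : ∃ f, Lift f g := by
  induction hg using Subgroup.closure_induction with
  | mem y hy =>
    obtain ⟨x, hx, rfl⟩ := hy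
    have : ∃ f, Lift f (gp Rux.nets x)⁻¹ := by
      have h := hx
      simp only [Rux.L, List.mem_cons, List.not_mem_nil, or_false] at h
      rcases h with rfl | rfl | rfl | rfl | rfl | rfl | rfl | rfl | rfl | rfl | rfl | rfl | rfl | rfl | rfl | rfl
      exacts [lift_of_mapsB hx ps1_ok, lift_of_mapsB hx ps2_ok, lift_of_mapsB hx ps3_ok, lift_of_mapsB hx ps4_ok,
        lift_of_mapsB hx ps5_ok, lift_of_mapsB hx ps6_ok, lift_of_mapsB hx ps7_ok, lift_of_mapsB hx ps8_ok,
        lift_of_mapsB hx ps9_ok, lift_of_mapsB hx ps10_ok, lift_of_mapsB hx ps11_ok, lift_of_mapsB hx ps12_ok,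
        lift_of_mapsB hx ps13_ok, lift_of_mapsB hx ps14_ok, lift_of_mapsB hx ps15_ok, lift_of_mapsB hx ps16_ok]
    exact this.elim fun f h => ⟨f⁻¹, h.inv (RuM.fx (mem_cl hx)).inv⟩
  | one => exact ⟨1, fun p hp => ⟨0, by simp [act_one (vec_mem hp)]⟩⟩
  | mul s t _ ht h1 h2 => exact h1.elim fun f h => h2.elim fun f' h' => ⟨_, h.mul h' (RuM.fx ht)⟩
  | inv s hs h1 => exact h1.elim fun f h => ⟨_, h.inv (RuM.fx hs)⟩

theorem vec_fr (k : RuIdx) : nth 0 frs (idx k) < 4060 ∧ vec (nth 0 frs (idx k)) = Pi.single k 4 := by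
  revert k; decide +kernel

theorem hp_single (x : RuVec) (k : RuIdx) : hp x (Pi.single k 4) = 4 * x k := by
  simp [hp, Pi.single_apply, apply_ite star, mul_comm]

theorem vec_zero : vec 0 = Pi.single (ix 0) 4 := (vec_fr (ix 0)).2

/-- the norm of the first coordinate. -/
def n0 (p : ℕ) : ℤ := if p = 0 then 16 else if p ≤ 2304 then 1 else 0

theorem norm0 {p : ℕ} (hp : p < 4060) : (vec p (ix 0)).norm = n0 p := by
  have := allR_sound coord0 (Nat.zero_le _) hp
  simp only [forceH_eq, force_eq, beq_tt, cnd_eq, ble_tt, Nat.add_eq, Nat.mul_eq] at this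
  have e : (vec p (ix 0)).norm = ((dg (cT p) 0 : ℤ) - 4) * (dg (cT p) 0 - 4) + (dg (cT p) 28 - 4) * (dg (cT p) 28 - 4) := by
    rw [Zsqrtd.norm_def]; simp only [neg_mul, one_mul, sub_neg_eq_add]; rfl
  rw [e, n0]
  split_ifs at this ⊢ <;> zify at this <;> linear_combination this

theorem Lift.hp {f : fourRu} {g : Equiv.Perm ℕ} (h : Lift f g) {p q : ℕ} (h1 : p < 4060) (h2 : q < 4060) :
    ∃ k : ℕ, hp (vec (g p)) (vec (g q)) = gI ^ k * hp (vec p) (vec q) := by
  obtain ⟨k, e⟩ := h p h1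
  obtain ⟨l, e'⟩ := h q h2
  refine ⟨3 * k + l, ?_⟩
  rw [smul_swap e, smul_swap e', hp_smul_left, hp_smul_right, act_hp _ (vec_mem h1) (vec_mem h2), ← mul_assoc, pow_add,
    star_pow, pow_mul (star gI), show star gI ^ 3 = gI by decide]

theorem norm_gI (k : ℕ) : (gI ^ k).norm = 1 := by
  have := Zsqrtd.norm_eq_mul_conj (gI ^ k)
  rw [gI_star] at this
  exact_mod_cast this

theorem Lift.nn {f : fourRu} {g : Equiv.Perm ℕ} (h : Lift f g) {p q : ℕ} (h1 : p < 4060) (h2 : q < 4060) :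
    (RuL.hp (vec (g p)) (vec (g q))).norm = (RuL.hp (vec p) (vec q)).norm := by
  obtain ⟨k, e⟩ := h.hp h1 h2
  rw [e, Zsqrtd.norm_mul, norm_gI, one_mul]

theorem nn_zero {p : ℕ} (h : p < 4060) : (hp (vec p) (vec 0)).norm = 16 * n0 p := by
  rw [vec_zero, hp_single, Zsqrtd.norm_mul, norm0 h]; rfl

theorem exists_move {p : ℕ} (h : p < 4060) : ∃ f g, Lift f g ∧ Fx 4060 g ∧ g 0 = p := by
  obtain ⟨g, hg, e⟩ := RuM.trans0 h
  obtain ⟨f, hf⟩ := exists_lift hg
  exact ⟨f, g, hf, RuM.fx hg, e⟩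

theorem vec_inj {p q k : ℕ} (h1 : p < 4060) (h2 : q < 4060) (e : vec q = gI ^ k • vec p) : q = p := by
  obtain ⟨f, g, hf, hg, rfl⟩ := exists_move h1
  have := hf.nn (hg.inv.lt h2) (show 0 < 4060 by norm_num)
  rw [app_inv, e, hp_smul_left, Zsqrtd.norm_mul, norm_gI, hp_self, vec_norm h1, nn_zero (hg.inv.lt h2), n0] at this
  split_ifs at this with h
  · rw [← h, app_inv]
  · exact absurd this (by decide)
  · exact absurd this (by decide)

theorem four_dvd {x y : RuVec} (hx : x ∈ ruLattice) (hy : y ∈ ruLattice) : (4 : GaussianInt) ∣ hp x y := by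
  have key : ∀ y, (∀ p < 4060, (4 : GaussianInt) ∣ hp (vec p) y) → ∀ x ∈ ruLattice, (4 : GaussianInt) ∣ hp x y :=
    fun y h x hx => le_gens (K := {
      carrier := {x | (4 : GaussianInt) ∣ hp x y}
      zero_mem' := by simp [hp]
      add_mem' := fun a b => by simpa only [Set.mem_setOf_eq, hp_add_left] using dvd_add a b
      neg_mem' := fun a => by simpa only [Set.mem_setOf_eq, hp_neg_left] using a.neg_right })
      (fun p h1 k => show _ ∣ _ from hp_smul_left _ _ _ ▸ (h p h1).mul_left _) hx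
  refine key y (fun p h1 => ?_) x hx
  rw [← star_hp]
  refine (show (4 : GaussianInt) = star 4 from rfl) ▸ map_dvd (starRingEnd _) (key _ (fun q h2 => ?_) y hy)
  obtain ⟨f, g, hf, hg, rfl⟩ := exists_move h1
  obtain ⟨k, e⟩ := hf.hp (hg.inv.lt h2) (show 0 < 4060 by norm_num)
  rw [app_inv] at e
  rw [e, vec_zero, hp_single]
  exact (dvd_mul_right _ _).mul_left _

theorem four_dvd_re {x y : RuVec} (hx : x ∈ ruLattice) (hy : y ∈ ruLattice) : (4 : ℤ) ∣ (hp x y).re := by
  obtain ⟨c, e⟩ := four_dvd hx hy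
  exact ⟨c.re, by rw [e]; simp⟩

theorem eight_dvd {x : RuVec} (hx : x ∈ ruLattice) : (8 : ℤ) ∣ ruNorm x :=
  (le_gens (K := {
      carrier := {x | x ∈ ruLattice ∧ (8 : ℤ) ∣ ruNorm x}
      zero_mem' := ⟨zero_mem _, by simp [ruNorm]⟩
      add_mem' := fun a b => ⟨add_mem a.1 b.1, by
        have := four_dvd_re a.1 b.1
        have := a.2
        have := b.2
        rw [norm_add]; omega⟩
      neg_mem' := fun a => ⟨neg_mem a.1, by simpa [ruNorm] using a.2⟩ })
    (fun p h1 k => ⟨unit_mem _ (vec_mem h1), by rw [norm_unit, vec_norm h1]; norm_num⟩) hx).2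

end Cfsg.Lib.RuL
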