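/-
The 4060 lines form a projective 2-design; the minimal norm of the lattice.
-/
import Cfsg.Agent.Lib.Ru.Lat

set_option autoImplicit false
set_option maxRecDepth 100000

namespace Cfsg.Lib.RuL

open Finset Cfsg.Spor Cfsg.Lib.Comp

section
variable {α β : Type} [Fintype α] [Fintype β]

/-- the Hermitian product on any index set. -/
def hq (v w : α → GaussianInt) : GaussianInt := ∑ p, v p * star (w p)

theorem star_hq (v w : α → GaussianInt) : star (hq v w) = hq w v := by simp [hq, mul_comm]

theorem hq_sum (s : Finset ℕ) (a : ℕ → α → GaussianInt) (w : α → GaussianInt) :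
    hq (∑ k ∈ s, a k) w = ∑ k ∈ s, hq (a k) w := by
  simp only [hq, Finset.sum_apply, sum_mul]
  exact sum_comm

theorem hq_sub (u v w : α → GaussianInt) (c : ℤ) : hq (u - c • v) w = hq u w - c * hq v w := by
  simp [hq, sub_mul, mul_sum, mul_assoc]

theorem hq_zero {v : α → GaussianInt} (h : hq v v = 0) : v = 0 := by
  have : ∑ p, (v p).norm = 0 := by
    simp only [hq, ← Zsqrtd.norm_eq_mul_conj] at h
    exact_mod_cast h
  exact funext fun p =>
    GaussianInt.norm_eq_zero.1 ((sum_eq_zero_iff_of_nonneg fun p _ => GaussianInt.norm_nonneg (v p)).1 this p (mem_univ p))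

theorem welch {s : Finset ℕ} {t : ℕ → α → GaussianInt} {S : α → GaussianInt} {c a : ℤ}
    (h1 : ∑ p ∈ s, ∑ q ∈ s, hq (t q) (t p) = c * a) (h2 : ∑ p ∈ s, hq (t p) S = a) (h3 : c * hq S S = a)
    (w : α → GaussianInt) : ∑ p ∈ s, hq (t p) w = c * hq S w := by
  rw [← hq_sum] at h2
  have h4 : hq (∑ p ∈ s, t p) (∑ p ∈ s, t p) = c * a := by
    rw [← h1, ← star_hq, hq_sum, star_sum]
    simp only [star_hq, hq_sum]
  have h5 : ∑ p ∈ s, t p - c • S = 0 := hq_zero (by
    rw [hq_sub, ← star_hq _ S, ← star_hq _ (∑ p ∈ s, t p), hq_sub, hq_sub, h4, h2, h3, ← star_hq _ S, h2]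
    simp)
  rw [← sub_eq_zero, ← hq_sum, ← hq_sub, h5]
  simp [hq]

/-- tensor product. -/
def ten (u : α → GaussianInt) (w : β → GaussianInt) : α × β → GaussianInt := fun i => u i.1 * w i.2

theorem hq_ten (u u' : α → GaussianInt) (w w' : β → GaussianInt) : hq (ten u w) (ten u' w') = hq u u' * hq w w' := by
  rw [hq, hq, hq, sum_mul_sum, Fintype.sum_prod_type]
  exact sum_congr rfl fun _ _ => sum_congr rfl fun _ _ => by simp only [ten, star_mul]; ring

/-- rank one projector. -/
def prj (u : α → GaussianInt) : α × α → GaussianInt := ten u (star u)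

theorem hq_prj (u w : α → GaussianInt) : hq (prj u) (prj w) = (hq u w).norm := by
  rw [prj, prj, hq_ten, Zsqrtd.norm_eq_mul_conj, star_hq]
  simp [hq, mul_comm]

variable [DecidableEq α]

/-- graph of a map. -/
def dl (e : α → α) : α × α → GaussianInt := fun i => if i.1 = e i.2 then 1 else 0

theorem hq_dl (u : α × α → GaussianInt) (e : α → α) : hq u (dl e) = ∑ j, u (e j, j) := by
  rw [hq, Fintype.sum_prod_type_right]
  simp [dl, apply_ite star]

theorem hq_add (u v w : α → GaussianInt) : hq u (v + w) = hq u v + hq u w := by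
  simp [hq, mul_add, sum_add_distrib]

end

theorem sum_nn (F : ℤ → ℤ) {p : ℕ} (h : p < 4060) :
    ∑ q ∈ range 4060, F (hp (vec q) (vec p)).norm = F 256 + 2304 * F 16 + 1755 * F 0 := by
  obtain ⟨f, g, hf, hg, rfl⟩ := exists_move h
  rw [← sum_bijective g g.bijective (s := range 4060) (f := fun q => F (16 * n0 q))
    (fun q => by simp only [mem_range, hg.lt_iff])
    (fun q hq => by rw [hf.nn (mem_range.1 hq) (by norm_num), nn_zero (mem_range.1 hq)]),
    show 4060 = 1 + 2304 + 1755 from rfl, sum_range_add, sum_range_add, sum_range_one,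
    sum_congr rfl (g := fun _ => F 16) fun x hx => by
      rw [n0, if_neg (by omega), if_pos (by have := mem_range.1 hx; omega)]; rfl,
    sum_congr (s₁ := range 1755) rfl (g := fun _ => F 0) fun x hx => by
      rw [n0, if_neg (by omega), if_neg (by omega)]; rfl]
  simp [n0]

theorem design1 (y : RuVec) : ∑ p ∈ range 4060, (hp (vec p) y).norm = 2320 * ruNorm y := by
  have a : ∀ x : RuVec, hq (prj x) (dl id) = ruNorm x := fun x => by rw [hq_dl, ← hp_self]; rfl
  have := welch (s := range 4060) (t := fun p => prj (vec p)) (S := dl id) (c := 2320) (a := 64960)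
    (by
      simp only [hq_prj, ← Int.cast_sum]
      rw [sum_congr rfl (f := fun p => ∑ q ∈ range 4060, (hq (vec q) (vec p)).norm) fun p h => sum_nn id (mem_range.1 h)]
      simp; norm_num)
    (by rw [sum_congr rfl fun p h => (a _).trans (congrArg _ (vec_norm (mem_range.1 h)))]; simp; norm_num)
    (by rw [hq_dl]; decide +kernel) (prj y)
  simp only [hq_prj] at this
  rw [← star_hq, a] at this
  exact Int.cast_injective (α := GaussianInt) (by simpa [hp, hq] using this)

theorem design2 (y : RuVec) : ∑ p ∈ range 4060, (hp (vec p) y).norm ^ 2 = 2560 * ruNorm y ^ 2 := by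
  have a : ∀ x : RuVec, hq (prj (ten x x)) (dl id + dl Prod.swap) = (2 * ruNorm x ^ 2 : ℤ) := fun x => by
    have : ∑ j : RuIdx × RuIdx, prj (ten x x) (j.swap, j) = hq (ten x x) (ten x x) :=
      sum_congr rfl fun j _ => by simp [prj, ten, mul_comm]
    rw [hq_add, hq_dl, hq_dl, this]
    change hq (ten x x) (ten x x) + _ = _
    rw [hq_ten, show hq x x = _ from hp_self x]
    push_cast; ring
  have b : ∀ x y : RuVec, hq (prj (ten x x)) (prj (ten y y)) = ((hp x y).norm ^ 2 : ℤ) := fun x y => by
    rw [hq_prj, hq_ten, Zsqrtd.norm_mul, sq]; rfl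
  have := welch (s := range 4060) (t := fun p => prj (ten (vec p) (vec p))) (S := dl id + dl Prod.swap) (c := 1280)
    (a := 2078720)
    (by
      simp only [b, ← Int.cast_sum]
      rw [sum_congr rfl fun p h => sum_nn (· ^ 2) (mem_range.1 h)]
      simp; norm_num)
    (by rw [sum_congr rfl fun p h => (a _).trans (by rw [vec_norm (mem_range.1 h)])]; simp; norm_num)
    (by rw [hq_add, hq_dl, hq_dl]; decide +kernel) (prj (ten y y))
  simp only [b] at this
  rw [← star_hq, a] at this
  exact Int.cast_injective (α := GaussianInt) (by simp at this; push_cast; linear_combination this)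

theorem exists_big {y : RuVec} {a : ℤ} (h : 145 * a * ruNorm y < 10 * ruNorm y ^ 2) :
    ∃ p < 4060, 16 * a < (hp (vec p) y).norm := by
  by_contra! c
  have := sum_le_sum (s := range 4060) (f := fun p => (hp (vec p) y).norm ^ 2) (g := fun p => 16 * a * (hp (vec p) y).norm)
    fun p h => by nlinarith [c p (mem_range.1 h), GaussianInt.norm_nonneg (hp (vec p) y)]
  rw [← mul_sum, design1, design2] at this
  linarith

theorem min_norm {y : RuVec} (hy : y ∈ ruLattice) (h : y ≠ 0) : 16 ≤ ruNorm y := by
  have := sum_le_sum (s := range 4060) (g := fun p => (hp (vec p) y).norm ^ 2) (f := fun p => 16 * (hp (vec p) y).norm)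
    fun p h => by
      obtain ⟨c, e⟩ := four_dvd (vec_mem (mem_range.1 h)) hy
      have := GaussianInt.norm_nonneg c
      simp only [e, Zsqrtd.norm_mul, show (4 : GaussianInt).norm = 16 by decide]
      rcases this.eq_or_lt with h | h <;> nlinarith
  rw [← mul_sum, design1, design2] at this
  have h1 := eight_dvd hy
  have h2 : 0 < ruNorm y := (norm_nonneg' y).lt_of_ne fun e => h (eq_zero_of_norm e.symm)
  have : 8 < ruNorm y := by nlinarith
  omega

end Cfsg.Lib.RuL
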