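/-
The vectors of norm 16 lie on the 4060 lines.
-/
import Cfsg.Agent.Lib.Ru.Design
import Cfsg.Agent.Lib.Ru.Enum

set_option autoImplicit false
set_option maxRecDepth 100000

namespace Cfsg.Lib.RuL

open Finset Cfsg.Spor Cfsg.Lib.Comp Cfsg.Lib.Rfn

theorem wt_eq (z : ℕ) : wt z = ∑ j ∈ range 56, (z.testBit (8 * j)).toNat := by
  have h := and_spr_mod (k := 8) (by norm_num) z 56
  have h2 : ∑ j ∈ range 56, (z.testBit (8 * j)).toNat ≤ ∑ j ∈ range 56, 1 := sum_le_sum fun j _ => Bool.toNat_le _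
  rw [sum_const, card_range] at h2
  rw [← OO_eq, Nat.ModEq, Nat.mod_eq_of_lt (a := ∑ _ ∈ _, _) (by simp only [smul_eq_mul] at h2; omega)] at h
  rw [← h, wt, land_eq']
  generalize z &&& OO = a
  rfl

theorem wt_zero {z : ℕ} (h : wt z = 0) {j : ℕ} (hj : j < 56) : z.testBit (8 * j) = false := by
  rw [wt_eq, sum_eq_zero_iff] at h
  simpa using h j (mem_range.2 hj)

/-- `C` gives the coordinates of `u` modulo four. -/
def Rep4 (u : RuVec) (C : ℕ) : Prop :=
  ∀ j < 56, (4 : ℤ) ∣ rc u j - ((C.testBit (8 * j)).toNat + 2 * (C.testBit (8 * j + 1)).toNat)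

theorem rep4_vecT (T : ℕ) : Rep4 (vecT T) T := fun j hj => by
  have h0 := testBit_look T 8 j 0
  have h1 := testBit_look T 8 j 1
  simp only [Nat.ofNat_pos, decide_true, Bool.true_and, add_zero, Nat.one_lt_ofNat] at h0 h1
  rw [rc_vecT T hj, ← h0, ← h1, Nat.testBit_zero, Nat.testBit_succ, Nat.testBit_zero]
  by_cases a : look T 8 j % 2 = 1 <;> by_cases b : look T 8 j / 2 % 2 = 1 <;> simp [a, b] <;> omega

theorem Rep4.add {u v : RuVec} {A B : ℕ} (h : Rep4 u A) (h' : Rep4 v B) : Rep4 (u + v) (add4 A B) := fun j hj => by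
  have a := h j hj
  have b := h' j hj
  have c : ∀ i, OO.testBit i = decide (8 ∣ i ∧ i < 8 * 56) := fun i => OO_eq ▸ testBit_spr (by norm_num) 56 i
  have c1 : (decide (8 * j ≥ 1) && OO.testBit (8 * j - 1)) = false := by
    rw [c, ← Bool.decide_and, decide_eq_false_iff_not]; omega
  have c2 : OO.testBit (8 * j) = true := by rw [c, decide_eq_true_iff]; omega
  simp only [add4, xor_eq', land_eq', shl_eq, Nat.testBit_xor, Nat.testBit_shiftLeft, Nat.testBit_and, rc_add,
    Nat.add_sub_cancel, c2, ← Bool.and_assoc]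
  rw [Bool.and_right_comm _ _ (OO.testBit _), Bool.and_right_comm _ _ (OO.testBit _), c1]
  revert a b
  cases A.testBit (8 * j) <;> cases B.testBit (8 * j) <;> cases A.testBit (8 * j + 1) <;> cases B.testBit (8 * j + 1) <;>
    simp <;> omega

theorem rep4_sumC {l : List ℕ} (h : ∀ p ∈ l, p < 4060) : ∃ u ∈ ruLattice, Rep4 u (sumC l) := by
  induction l with
  | nil => exact ⟨0, zero_mem _, fun j _ => by simp [rc_zero, sumC]⟩
  | cons p t ih =>
    rw [List.forall_mem_cons] at h
    obtain ⟨u, a, b⟩ := ih h.2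
    exact ⟨_, add_mem (vec_mem h.1) a, (rep4_vecT _).add b⟩

theorem rep4_UC {C : ℕ} (h : C ∈ UC) : ∃ u ∈ ruLattice, Rep4 u C := by
  obtain ⟨l, hl, rfl⟩ := List.mem_map.1 (UC_eq ▸ h)
  exact rep4_sumC (by revert l; decide)

theorem Rep4.odd {u : RuVec} {C : ℕ} (h : Rep4 u C) {j : ℕ} (hj : j < 56) : C.testBit (8 * j) = decide (Odd (rc u j)) := by
  have := h j hj
  revert this
  cases C.testBit (8 * j) <;> cases C.testBit (8 * j + 1) <;> simp [Int.odd_iff, Int.even_iff] <;> omega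

theorem comb_cons (f : ℕ → Bool) (r : ℕ × ℕ) (I : List (ℕ × ℕ)) (d : ℕ) :
    comb f (r :: I) d = comb f I (cnd (f r.1) (d ^^^ r.2) d) := rfl

theorem comb_xor {f g h : ℕ → Bool} {I : List (ℕ × ℕ)} (e : ∀ r ∈ I, h r.1 = xor (f r.1) (g r.1)) (a b : ℕ) :
    comb h I (a ^^^ b) = comb f I a ^^^ comb g I b := by
  induction I generalizing a b with
  | nil => rfl
  | cons r t ih =>
    rw [List.forall_mem_cons] at e
    rw [comb_cons, comb_cons, comb_cons, ← ih e.2, e.1]
    congr 1
    cases f r.1 <;> cases g r.1 <;> simp [cnd, Nat.xor_assoc, Nat.xor_left_comm b, Nat.xor_comm b]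

theorem enum_sound {k : ℕ → Bool} {I : List (ℕ × ℕ)} {d : ℕ} (h : enum k I d = true) (f : ℕ → Bool) :
    k (comb f I d) = true := by
  induction I generalizing d with
  | nil => exact h
  | cons r t ih =>
    have e : enum k (r :: t) d = cnd (enum k t d) (enum k t (d ^^^ r.2)) false := rfl
    rw [e, cnd_tt] at h
    rw [comb_cons]
    cases f r.1
    · exact ih h.1
    · exact ih h.2

/-- all rows. -/
def II : List (ℕ × ℕ) := (0, b0) :: (28, b1) :: IB

theorem comb_II (f : ℕ → Bool) : comb f II 0 = comb f IB (cnd (f 28) (cnd (f 0) (0 ^^^ b0) 0 ^^^ b1) (cnd (f 0) (0 ^^^ b0) 0)) := by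
  rw [II, comb_cons, comb_cons]

/-- the parity word. -/
noncomputable def pw (y : RuVec) : ℕ := comb (fun j => decide (Odd (rc y j))) II 0

theorem pw_of_spanB {y : RuVec} {T : ℕ} (h : spanB II T = true) (e : ∀ j < 56, T.testBit (8 * j) = decide (Odd (rc y j))) :
    ∀ j < 56, (pw y).testBit (8 * j) = decide (Odd (rc y j)) := fun j hj => by
  have h1 := wt_zero (beq_tt.1 h) hj
  have h2 := comb_xor (I := II) (h := fun j => decide (Odd (rc y j))) (g := fun _ => false)
    (f := fun j => Nat.beq (Nat.land (Nat.shiftRight T (Nat.mul 8 j)) 1) 1) (fun r hr => by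
      rw [beq_bit, Bool.xor_false]; exact (e _ (by revert r; decide)).symm) 0 0
  rw [show comb (fun _ => false) II 0 = 0 from rfl, Nat.xor_zero, Nat.xor_zero] at h2
  rw [xor_eq', Nat.testBit_xor, ← h2, e j hj] at h1
  exact (by simpa [pw] using h1 : _ = _).symm

theorem pw_spec {y : RuVec} (hy : y ∈ ruLattice) : ∀ j < 56, (pw y).testBit (8 * j) = decide (Odd (rc y j)) := by
  let K : AddSubgroup RuVec := {
    carrier := {y | ∀ j < 56, (pw y).testBit (8 * j) = decide (Odd (rc y j))}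
    zero_mem' := fun j _ => by simp [pw, rc_zero, show comb (fun _ => false) II 0 = 0 from rfl]
    add_mem' := fun {a b} ha hb j hj => by
      have e : ∀ j, decide (Odd (rc (a + b) j)) = xor (decide (Odd (rc a j))) (decide (Odd (rc b j))) := fun j => by
        rw [rc_add]; simp only [Int.odd_iff]
        by_cases h1 : rc a j % 2 = 1 <;> by_cases h2 : rc b j % 2 = 1 <;> simp [h1, h2] <;> omega
      rw [e, ← ha j hj, ← hb j hj, ← Nat.testBit_xor, pw, pw, pw, ← comb_xor (h := fun j => decide (Odd (rc (a + b) j))) fun r _ => e r.1]; rfl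
    neg_mem' := fun {a} ha => by simpa only [Set.mem_setOf_eq, pw, rc_neg, odd_neg] using ha }
  refine le_gens (K := K) (fun p h k => ?_) hy
  have := allR_sound span_ok (Nat.zero_le _) h
  rw [forceH_eq, cnd_tt, forceH_eq] at this
  have a : ∀ j < 56, (cT p).testBit (8 * j) = decide (Odd (rc (vec p) j)) := fun j => (rep4_vecT (cT p)).odd
  induction k using Nat.twoStepInduction with
  | zero => rw [pow_zero, one_smul]; exact pw_of_spanB this.1 a
  | one =>
    rw [pow_one]
    refine pw_of_spanB this.2 fun j hj => ?_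
    rw [swp, lor_eq', shr_eq, shl_eq, Nat.testBit_or, Nat.testBit_shiftRight, Nat.testBit_shiftLeft]
    by_cases h1 : j < 28
    · simp only [(rc_I _ h1).1, odd_neg]
      rw [decide_eq_false (by omega), Bool.false_and, Bool.or_false, ← a _ (by omega)]
      congr 1; omega
    · obtain ⟨j, rfl⟩ := Nat.exists_eq_add_of_le (not_lt.1 h1)
      rw [(rc_I _ (by omega)).2, Nat.testBit_lt_two_pow ((of_codeB (vec_code h)).1.trans_le
        (Nat.pow_le_pow_right (by norm_num) (by omega))), decide_eq_true (by omega), Bool.true_and, Bool.false_or,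
        ← a _ (by omega)]
      congr 1; omega
  | more k ih _ => rw [pow_add, sq, gI_sq, mul_neg_one, neg_smul]; exact neg_mem ih

theorem wit_sound {U : List ℕ} {d M : ℕ} (h : wit U d M = true) :
    ∃ C ∈ U, wt (C &&& d) = 0 ∧ (wt (C >>> 1 &&& d) + wt (C &&& M)) % 2 = 1 := by
  induction U with
  | nil => cases h
  | cons C t ih =>
    have e : wit (C :: t) d M = cnd (cnd (Nat.beq (wt (C &&& d)) 0)
      (Nat.beq ((wt (C >>> 1 &&& d) + wt (C &&& M)) % 2) 1) false) true (wit t d M) := rfl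
    rw [e, cnd_eq] at h
    split_ifs at h with h1
    · rw [cnd_tt, beq_tt, beq_tt] at h1
      exact ⟨C, List.mem_cons_self, h1⟩
    · exact (ih h).imp fun C h => ⟨List.mem_cons_of_mem _ h.1, h.2⟩

theorem subs_sound {U : List ℕ} {d k M n : ℕ} (h : subs U d k M n = true) {s : Finset ℕ} (hs : ∀ j ∈ s, 0 < j ∧ j < n)
    (hc : s.card = k) : ∃ M', (∀ j, M'.testBit (8 * j) = (M.testBit (8 * j) || decide (j ∈ s))) ∧ wit U d M' = true := by
  induction k generalizing M n s with
  | zero => rw [card_eq_zero.1 hc]; exact ⟨M, by simp, h⟩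
  | succ k ih =>
    have h0 : s.Nonempty := card_pos.1 (by omega)
    have h1 := hs _ (s.max'_mem h0)
    have h2 := allN_iff.1 h _ h1.2
    rw [cnd_eq, if_neg (by rw [beq_tt]; omega), forceH_eq] at h2
    obtain ⟨M', a, b⟩ := ih h2 (s := s.erase (s.max' h0))
      (fun j hj => ⟨(hs j (mem_of_mem_erase hj)).1, lt_max'_of_mem_erase_max' s h0 hj⟩)
      (by rw [card_erase_of_mem (s.max'_mem h0), hc]; rfl)
    refine ⟨M', fun j => ?_, b⟩
    rw [a, lor_eq', shl_eq, Nat.testBit_or, Nat.one_shiftLeft, Nat.testBit_two_pow, Bool.or_assoc, ← Bool.decide_or]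
    congr 1
    rw [decide_eq_decide, mem_erase, Nat.mul_eq, mul_right_inj' (by norm_num)]
    by_cases e : s.max' h0 = j
    · simp [← e, s.max'_mem h0]
    · simp [e, Ne.symm e]

theorem norm_split {y : RuVec} (hy : y ∈ ruLattice) (hb : ∀ j < 56, |rc y j| ≤ 2) :
    ruNorm y = wt (pw y) + 4 * #{j ∈ range 56 | 0 < j ∧ |rc y j| = 2} + if |rc y 0| = 2 then 4 else 0 := by
  have : ∀ j ∈ range 56, rc y j * rc y j = ((pw y).testBit (8 * j)).toNat + 4 * (if 0 < j ∧ |rc y j| = 2 then 1 else 0) +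
      if j = 0 then (if |rc y j| = 2 then 4 else 0) else 0 := fun j hj => by
    have := abs_le.1 (hb j (mem_range.1 hj))
    rw [pw_spec hy j (mem_range.1 hj)]
    generalize rc y j = a at this
    obtain ⟨h1, h2⟩ := this
    rcases Nat.eq_zero_or_pos j with rfl | h0
    · interval_cases a <;> decide
    · rw [if_neg h0.ne']; simp only [h0, true_and]; interval_cases a <;> decide
  rw [norm_rc, sum_congr rfl this, sum_add_distrib, sum_add_distrib, ← mul_sum, sum_ite_eq',
    if_pos (mem_range.2 (by norm_num)), wt_eq, card_filter, Nat.cast_sum, Nat.cast_sum]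
  simp only [Nat.cast_ite, Nat.cast_one, Nat.cast_zero]

theorem no_wit {y : RuVec} (hy : y ∈ ruLattice) (hb : ∀ j < 56, |rc y j| ≤ 2) {M : ℕ}
    (hM : ∀ j < 56, M.testBit (8 * j) = decide (|rc y j| = 2)) : wit UC (pw y) M ≠ true := fun b => by
  obtain ⟨C, hC, c1, c2⟩ := wit_sound b
  obtain ⟨u, hu, e⟩ := rep4_UC hC
  have h2 := four_dvd_re hy hu
  have h3 : (4 : ℤ) ∣ ∑ j ∈ range 56, (rc y j * rc u j -
      2 * (((C >>> 1 &&& pw y).testBit (8 * j)).toNat + ((C &&& M).testBit (8 * j)).toNat)) :=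
    dvd_sum fun j hj => by
      have hj := mem_range.1 hj
      have d1 := wt_zero c1 hj
      obtain ⟨v, d2⟩ := e j hj
      obtain ⟨h1, h2⟩ := abs_le.1 (hb j hj)
      rw [Nat.testBit_and, pw_spec hy j hj] at d1
      rw [Nat.testBit_and, Nat.testBit_and, pw_spec hy j hj, hM j hj, Nat.testBit_shiftRight, add_comm 1,
        eq_add_of_sub_eq d2]
      revert d1
      generalize rc y j = a at h1 h2
      cases C.testBit (8 * j) <;> cases C.testBit (8 * j + 1) <;> interval_cases a <;> norm_num <;> omega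
  rw [sum_sub_distrib, ← hp_re, ← mul_sum, sum_add_distrib, ← Nat.cast_sum, ← Nat.cast_sum, ← wt_eq, ← wt_eq] at h3
  omega

theorem no_leaf {y : RuVec} (hy : y ∈ ruLattice) (hn : ruNorm y = 16) (hb : ∀ j < 56, |rc y j| ≤ 2) {t M : ℕ}
    (hM : ∀ j, M.testBit (8 * j) = decide (j = 0 ∧ |rc y 0| = 2)) (ht : t = if |rc y 0| = 2 then 12 else 16) :
    leaf UC t M (pw y) ≠ true := fun h => by
  have h1 := norm_split hy hb
  have h2 : wt (pw y) + 4 * #{j ∈ range 56 | 0 < j ∧ |rc y j| = 2} = t := by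
    rw [ht]; split_ifs at h1 ⊢ <;> omega
  rw [leaf, ble_tt.2 (by omega), cnd_true, force_eq,
    show ∀ a b : ℕ, Nat.div (Nat.sub a b) 4 = (a - b) / 4 from fun _ _ => rfl] at h
  obtain ⟨M', a, b⟩ := subs_sound h (s := {j ∈ range 56 | 0 < j ∧ |rc y j| = 2})
    (fun j hj => ⟨(mem_filter.1 hj).2.1, mem_range.1 (mem_filter.1 hj).1⟩) (by omega)
  refine no_wit hy hb (fun j hj => ?_) b
  rw [a, hM, ← Bool.decide_or, decide_eq_decide]
  simp only [mem_filter, mem_range, hj, true_and]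
  rcases Nat.eq_zero_or_pos j with rfl | h0
  · simp
  · simp [h0, h0.ne']

/-- vectors off the lines. -/
def Off (y : RuVec) : Prop := y ∈ ruLattice ∧ ruNorm y = 16 ∧ ∀ p < 4060, ∀ k : ℕ, y ≠ gI ^ k • vec p

theorem Off.bound {y : RuVec} (h : Off y) : ∀ j < 56, |rc y j| ≤ 2 := by
  have a : ∀ (q : RuIdx) (k : ℕ), (y q * star (gI ^ k)).re ≤ 2 := fun q k => by
    have h1 := unit_mem k (vec_mem (vec_fr q).1)
    have h2 := min_norm (sub_mem h.1 h1) (sub_ne_zero.2 (h.2.2 _ (vec_fr q).1 k))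
    rw [sub_eq_add_neg, ← neg_one_smul GaussianInt (gI ^ k • _), norm_add, norm_smul', norm_unit, vec_norm (vec_fr q).1, h.2.1,
      hp_smul_right, hp_smul_right, (vec_fr q).2, hp_single] at h2
    simp at h2 ⊢
    linarith
  intro j _
  have b : ∀ q, ((y q).re ≤ 2 ∧ (y q).im ≤ 2) ∧ -2 ≤ (y q).re ∧ -2 ≤ (y q).im := fun q => by
    have := And.intro (And.intro (a q 0) (a q 1)) (And.intro (a q 2) (a q 3))
    simp [gI, pow_succ] at this
    omega
  rw [abs_le, rc]
  split_ifs
  · have := b (ix j); omega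
  · have := b (ix (j - 28)); omega

theorem Off.not_two {y : RuVec} (h : Off y) : |rc y 0| ≠ 2 := fun e => by
  refine no_leaf h.1 h.2.1 h.bound (M := 1) (t := 12) (fun j => ?_) (by rw [if_pos e]) ?_
  · rw [Bool.eq_iff_iff, Nat.testBit_one_eq_true_iff_self_eq_zero]; simp [e]
  · rw [pw, comb_II, decide_eq_false (p := Odd (rc y 0)) (by rw [Int.odd_iff]; rcases (abs_eq (by norm_num)).1 e with e | e <;> simp [e]),
      cnd_false]
    cases decide (Odd (rc y 28))
    · rw [cnd_false]; exact enum_sound enumA0 _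
    · rw [cnd_true, Nat.zero_xor]; exact enum_sound ((force_eq _ _).symm.trans enumA1) _

theorem norm16 {y : RuVec} (hy : y ∈ ruLattice) (hn : ruNorm y = 16) : ∃ p < 4060, ∃ k : ℕ, y = gI ^ k • vec p := by
  by_contra! c
  obtain ⟨p, h1, h2⟩ := exists_big (y := y) (a := 1) (by rw [hn]; norm_num)
  obtain ⟨f, g, hf, hg, rfl⟩ := exists_move h1
  have h3 : Off (act f⁻¹ y) := ⟨act_mem _ hy, (act_norm _ hy).trans hn, fun q hq k e => by
    obtain ⟨l, e'⟩ := hf q hq
    exact c _ (hg.lt hq) (k + l) (by rw [← act_inv' f hy, e, act_unit _ _ (vec_mem hq), e', smul_smul, pow_add])⟩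
  obtain ⟨l, e⟩ := hf 0 (by norm_num)
  rw [smul_swap e, hp_smul_left, Zsqrtd.norm_mul, norm_gI, ← act_inv' f hy, act_hp _ (vec_mem (by norm_num)) h3.1,
    ← star_hp, Zsqrtd.norm_conj, vec_zero, hp_single, Zsqrtd.norm_mul, show (4 : GaussianInt).norm = 16 by decide,
    Zsqrtd.norm_def, ← rc_lo _ (by norm_num), ← rc_hi] at h2
  generalize act f⁻¹ y = z at h2 h3
  have h4 : Off (gI • z) := ⟨gI_smul_mem_ruLattice h3.1, by simpa [h3.2.1] using norm_unit 1 z, fun q hq k e =>
    h3.2.2 q hq (3 * 1 + k) (by rw [pow_add, mul_smul, ← e]; exact smul_swap (by rw [pow_one]))⟩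
  have a1 := h3.not_two
  have a2 := h4.not_two
  rw [(rc_I _ (by norm_num)).1, abs_neg] at a2
  have b1 := h3.bound 0 (by norm_num)
  have b2 := h3.bound (28 + 0) (by norm_num)
  refine no_leaf h3.1 h3.2.1 h3.bound (M := 0) (t := 16) (fun j => by simp [a1]) (by rw [if_neg a1]) ?_
  have : Odd (rc z 0) ∧ Odd (rc z (28 + 0)) := by
    generalize rc z 0 = a at *
    generalize rc z (28 + 0) = b at *
    obtain ⟨_, _⟩ := abs_le.1 b1
    obtain ⟨_, _⟩ := abs_le.1 b2
    interval_cases a <;> interval_cases b <;> simp_all <;> decide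
  rw [pw, comb_II, decide_eq_true this.1, decide_eq_true this.2, cnd_true, cnd_true]
  exact enum_sound ((force_eq _ _).symm.trans enumB) _

end Cfsg.Lib.RuL
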