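/-
The Rudvalis group is the permutation group on the 4060 lines.
-/
import Cfsg.Agent.Lib.Ru.Small
import Cfsg.Agent.Lib.Ru.Lev
import Cfsg.Agent.Lib.Comp.Cover

set_option autoImplicit false
set_option maxRecDepth 100000

namespace Cfsg.Lib.RuL

open Finset Cfsg.Spor Cfsg.Lib.Comp Cfsg.Lib.Rfn Subgroup
open scoped commutatorElement

/-- orthogonal lines. -/
def adj (p q : ℕ) : Prop := (hp (vec q) (vec p)).norm = 0

theorem Lift.aut {f : fourRu} {g : Equiv.Perm ℕ} (h : Lift f g) (hg : Fx 4060 g) : Aut (70 * 58) adj g :=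
  ⟨hg, fun p hp q hq => by rw [adj, adj, h.nn hq hp]⟩

theorem aut_of_mem {g : Equiv.Perm ℕ} (hg : g ∈ HH) : Aut (70 * 58) adj g :=
  (exists_lift hg).elim fun _ h => h.aut (RuM.fx hg)

theorem DD_ok : DD.OK (70 * 58) adj :=
  ⟨⟨_, Rux.nets_ok⟩, RuM.htb, fun x hx => aut_of_mem (RuM.mem0 (testBit_msk.1 hx)), ⟨by norm_num, fun q => by
    change (itv 2305 1755).testBit q = true ↔ _
    rw [testBit_itv, decide_eq_true_eq]
    by_cases h : q < 4060
    · rw [adj, nn_zero h, n0]; split_ifs <;> omega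
    · omega⟩, 342, by norm_num, rfl⟩

theorem aut_mem {σ : Equiv.Perm ℕ} (h : Aut (70 * 58) adj σ) : σ ∈ HH := by
  obtain ⟨e1, s1, a1, -, b1, -⟩ := RuM.exact.cons Rux.nets_ok
  obtain ⟨e2, s2, a2, -, b2, -⟩ := e1.cons Rux.nets_ok
  obtain ⟨e3, s3, a3, -, b3, -⟩ := e2.cons Rux.nets_ok
  obtain ⟨-, -, -, -, b4, -⟩ := e3.cons Rux.nets_ok
  have l1 : cl (gp Rux.nets) RuM.M0 ≤ HH := RuM.cl_M0.le
  have l2 := cl_mono (γ := gp Rux.nets) s1
  have l3 := cl_mono (γ := gp Rux.nets) s2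
  have l4 := cl_mono (γ := gp Rux.nets) s3
  have step : ∀ {σ g : Equiv.Perm ℕ} {b : ℕ}, g b = σ b → (g⁻¹ * σ) b = b := fun e => by
    rw [Equiv.Perm.mul_apply, ← e, inv_app]
  have fx : ∀ {σ g : Equiv.Perm ℕ} {b : ℕ}, g b = b → σ b = b → (g⁻¹ * σ) b = b := fun e e' => step (e.trans e'.symm)
  obtain ⟨g1, m1, c1⟩ := b1 (σ 0) (Nat.zero_le _) (h.1.lt (by norm_num))
  have h1 := (aut_of_mem (l1 m1)).inv.mul h
  have f1 := step c1
  have := level2 DD_ok reach_ok h1 (B := [0]) (by simpa using f1) lev1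
  obtain ⟨g2, m2, c2⟩ := b2 _ this.1 this.2
  have h2 := (aut_of_mem (l1 (l2 m2))).inv.mul h1
  have f2 := And.intro (fx ((a1 _ (l2 m2)).2 m2) f1) (step c2)
  have := level2 DD_ok reach_ok h2 (B := [0, 1]) (by simpa using f2) lev2
  obtain ⟨g3, m3, c3⟩ := b3 _ this.1 this.2
  have h3 := (aut_of_mem (l1 (l2 (l3 m3)))).inv.mul h2
  have f3 := And.intro (fx ((a1 _ (l2 (l3 m3))).2 (l3 m3)) f2.1) (And.intro (fx ((a2 _ (l3 m3)).2 m3) f2.2) (step c3))
  have := level2 DD_ok reach_ok h3 (B := [0, 1, 2]) (by simpa using f3) lev3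
  obtain ⟨g4, m4, c4⟩ := b4 _ this.1 this.2
  have h4 := (aut_of_mem (l1 (l2 (l3 (l4 m4))))).inv.mul h3
  have f4 := And.intro (fx ((a1 _ (l2 (l3 (l4 m4)))).2 (l3 (l4 m4))) f3.1)
    (And.intro (fx ((a2 _ (l3 (l4 m4))).2 (l4 m4)) f3.2.1) (And.intro (fx ((a3 _ (l4 m4)).2 m4) f3.2.2) (step c4)))
  have := last2 DD_ok reach_ok h4 (B := [0, 1, 2, 1655]) (by simpa using f4) lev4
  rw [inv_mul_eq_one, eq_inv_mul_iff_mul_eq, eq_inv_mul_iff_mul_eq, eq_inv_mul_iff_mul_eq] at this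
  exact this ▸ mul_mem (l1 m1) (mul_mem (l1 (l2 m2)) (mul_mem (l1 (l2 (l3 m3))) (l1 (l2 (l3 (l4 m4))))))

theorem Lift.unique {f : fourRu} {g g' : Equiv.Perm ℕ} (h : Lift f g) (h' : Lift f g') (hg : Fx 4060 g) (hg' : Fx 4060 g') :
    g = g' := Equiv.ext fun p => by
  by_cases hp : p < 4060
  · obtain ⟨k, e⟩ := h p hp
    obtain ⟨l, e'⟩ := h' p hp
    exact vec_inj (k := 3 * k + l) (hg'.lt hp) (hg.lt hp) (by rw [smul_swap e, e', smul_smul, pow_add])
  · rw [hg p (not_lt.1 hp), hg' p (not_lt.1 hp)]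

theorem exists_perm (f : fourRu) : ∃ g ∈ HH, Lift f g := by
  have : ∀ (f : fourRu) (p : ℕ), ∃ q, (p < 4060 → q < 4060 ∧ ∃ k : ℕ, act f (vec p) = gI ^ k • vec q) ∧ (4060 ≤ p → q = p) :=
    fun f p => by
      by_cases h : p < 4060
      · obtain ⟨q, a, b⟩ := norm16 (act_mem f (vec_mem h)) ((act_norm f (vec_mem h)).trans (vec_norm h))
        exact ⟨q, fun _ => ⟨a, b⟩, fun h' => by omega⟩
      · exact ⟨p, fun h' => absurd h' h, fun _ => rfl⟩
  choose F h1 h2 using this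
  have h3 : ∀ f p, F f⁻¹ (F f p) = p := fun f p => by
    by_cases h : p < 4060
    · obtain ⟨a, k, b⟩ := h1 f p h
      obtain ⟨c, l, d⟩ := h1 f⁻¹ _ a
      refine (vec_inj (k := k + l) c h ?_).symm
      rw [pow_add, mul_smul, ← d, ← act_unit _ _ (vec_mem a), ← b, act_inv _ (vec_mem h)]
    · rw [h2 f p (not_lt.1 h), h2 _ p (not_lt.1 h)]
  have h4 : Lift f ⟨F f, F f⁻¹, h3 f, h3 f⁻¹⟩ := fun p hp => (h1 f p hp).2
  exact ⟨_, aut_mem (h4.aut (h2 f)), h4⟩

theorem scalar_of_lift {f : fourRu} (h : Lift f 1) : ∃ k : ℕ, ∀ x ∈ ruLattice, act f x = gI ^ k • x := by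
  have a : ∀ k : RuIdx, ∃ u : ℕ, ∀ x ∈ ruLattice, act f x k = gI ^ u * x k := fun k => by
    obtain ⟨u, e⟩ := h _ (vec_fr k).1
    refine ⟨u, fun x hx => ?_⟩
    have := act_hp f hx (vec_mem (vec_fr k).1)
    rw [e, Equiv.Perm.one_apply, hp_smul_right, (vec_fr k).2, hp_single, hp_single, mul_left_comm,
      mul_right_inj' (by decide)] at this
    rw [← this, ← mul_assoc, gI_star, one_mul]
  choose u hu using a
  refine ⟨u (ix 0), fun x hx => funext fun k => ?_⟩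
  have b : ∀ k : RuIdx, nth 0 qs (idx k) < 4060 ∧ vec (nth 0 qs (idx k)) (ix 0) ≠ 0 ∧ vec (nth 0 qs (idx k)) k ≠ 0 := by
    decide +kernel
  obtain ⟨b1, b2, b3⟩ := b k
  obtain ⟨v, e⟩ := h _ b1
  have c1 := hu k _ (vec_mem b1)
  have c2 := hu (ix 0) _ (vec_mem b1)
  rw [e, Equiv.Perm.one_apply, Pi.smul_apply, smul_eq_mul, mul_left_inj' (by assumption)] at c1 c2
  rw [hu k x hx, ← c1, c2]; rfl

theorem center_HH : center HH = ⊥ := by
  have := Rux.simple
  refine (IsSimpleGroup.eq_bot_or_eq_top_of_normal _ inferInstance).resolve_right fun h => ?_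
  letI := Group.commGroupOfCenterEqTop h
  have := Rux.nets_ok.finite Rux.L
  have h1 := IsSimpleGroup.prime_card (α := HH)
  rw [Rux.card] at h1
  norm_num at h1

theorem perfect_HH : commutator HH = ⊤ := by
  have := Rux.simple
  refine (IsSimpleGroup.eq_bot_or_eq_top_of_normal _ inferInstance).resolve_left fun h => ?_
  rw [commutator_eq_bot_iff_center_eq_top, center_HH] at h
  exact bot_ne_top h

theorem exists_pi : ∃ π : fourRu →* HH, Function.Surjective π ∧ π.ker = center fourRu ∧ Nat.card π.ker = 4 ∧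
    (∀ f, Lift f (π f)) ∧ ∀ f : fourRu, ∀ k : ℕ, (∀ x ∈ ruLattice, act f x = gI ^ k • x) → f ∈ π.ker := by
  choose P h1 h2 using exists_perm
  let π : fourRu →* HH := MonoidHom.mk' (fun f => ⟨P f, h1 f⟩) fun f g => Subtype.ext
    ((h2 _).unique ((h2 f).mul (h2 g) (RuM.fx (h1 g))) (RuM.fx (h1 _)) (RuM.fx (mul_mem (h1 f) (h1 g))))
  have s : Function.Surjective π := fun g => (exists_lift g.2).imp fun f h =>
    Subtype.ext ((h2 f).unique h (RuM.fx (h1 f)) (RuM.fx g.2))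
  have k1 : ∀ f : fourRu, ∀ k : ℕ, (∀ x ∈ ruLattice, act f x = gI ^ k • x) → f ∈ π.ker := fun f k h =>
    Subtype.ext ((h2 f).unique (g' := 1) (fun p hp => ⟨k, h _ (vec_mem hp)⟩) (RuM.fx (h1 f)) (Fx.one _))
  have k2 : ∀ f ∈ π.ker, ∃ k : ℕ, ∀ x ∈ ruLattice, act f x = gI ^ k • x := fun f hf =>
    scalar_of_lift ((show P f = 1 from congrArg Subtype.val hf) ▸ h2 f)
  obtain ⟨ι, hι⟩ := exists_iota
  have k3 : ∀ k : ℕ, ∀ x ∈ ruLattice, act (ι ^ k) x = gI ^ k • x := fun k x hx => by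
    induction k with
    | zero => simp [act_one hx]
    | succ k ih => rw [pow_succ', act_mul _ _ hx, ih, hι _ (unit_mem k hx), smul_smul, pow_succ']
  refine ⟨π, s, le_antisymm (fun f hf => mem_center_iff.2 fun g => ext_act fun x hx => ?_) fun f hf => ?_, ?_, h2, k1⟩
  · obtain ⟨k, e⟩ := k2 f hf
    rw [act_mul _ _ hx, act_mul _ _ hx, e _ hx, e _ (act_mem _ hx), act_unit _ _ hx]
  · rw [MonoidHom.mem_ker, ← mem_bot, ← center_HH]
    exact mem_center_iff.2 fun g => by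
      obtain ⟨g, rfl⟩ := s g
      rw [← map_mul, mem_center_iff.1 hf, map_mul]
  · have : π.ker = zpowers ι := le_antisymm (fun f hf => by
      obtain ⟨k, e⟩ := k2 f hf
      exact ⟨k, by simpa using ext_act fun x hx => (k3 k x hx).trans (e x hx).symm⟩)
      (zpowers_le.2 (k1 ι 1 (by simpa using hι)))
    have := Fact.mk Nat.prime_two
    rw [‹π.ker = _›, Nat.card_zpowers]
    refine orderOf_eq_prime_pow (p := 2) (n := 1) (fun e => ?_)
      (ext_act fun x hx => by rw [k3 _ x hx, act_one hx]; exact gI_four ▸ one_smul _ x)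
    have := k3 (2 ^ 1) _ (vec_mem (show 0 < 4060 by norm_num))
    rw [e, act_one (vec_mem (by norm_num))] at this
    exact absurd this (by decide +kernel)

theorem iso : Nonempty (Ru ≃* HH) := by
  obtain ⟨π, s, k, -⟩ := exists_pi
  exact ⟨(QuotientGroup.quotientMulEquivOfEq k.symm).trans (QuotientGroup.quotientKerEquivOfSurjective π s)⟩

theorem exists_mon {i : ℕ} (hi : i < 2) : ∃ f : fourRu, ∀ x ∈ ruLattice, act f x = mon i x := by
  obtain ⟨f, hf⟩ := exists_aut ((4 : GaussianInt) • monL i) (fun x => by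
    rw [LinearMap.smul_apply, norm_smul', show (4 : GaussianInt).norm = 16 by decide]
    exact congrArg _ ((mon_vec (by omega)).1 x))
    (fun x hx => ⟨_, mon_mem i hx, rfl⟩) fun y hy => ⟨_, neg_mem (mon_mem i hy), congrArg ((4 : GaussianInt) • ·) (show monL i (-mon i y) = y by
      funext ⟨n, t⟩
      interval_cases i <;> fin_cases t <;> simp [monL, mon, ruRj, ruRk, ← mul_assoc, gI_sq])⟩
  exact ⟨f, fun x hx => (four_inj (hf x hx)).symm⟩

theorem cover2 : Cover HH 2 := by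
  obtain ⟨π, s, k, c, -, k1⟩ := exists_pi
  have := Rux.nets_ok.finite Rux.L
  have : Finite π.ker := Nat.finite_of_card_ne_zero (by omega)
  have : Finite fourRu := (π.finite_iff_finite_ker_range).2 ⟨this, inferInstance⟩
  let σ := π.comp (commutator fourRu).subtype
  have s' : Function.Surjective σ := fun g => by
    obtain ⟨f, hf, e⟩ : g ∈ (commutator fourRu).map π := by
      rw [map_commutator_eq, MonoidHom.range_eq_top.2 s]; exact perfect_HH.ge (mem_top g)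
    exact ⟨⟨f, hf⟩, e⟩
  obtain ⟨a, ha⟩ := exists_mon (i := 0) (by norm_num)
  obtain ⟨b, hb⟩ := exists_mon (i := 1) (by norm_num)
  have h1 : ∀ x ∈ ruLattice, act ⁅a, b⁆ x = gI ^ 2 • x := fun x hx => by
    have hy := act_mem (b * a)⁻¹ hx
    rw [← act_inv' (b * a) hx, ← act_mul _ _ hy, show ⁅a, b⁆ * (b * a) = a * b by group]
    generalize act (b * a)⁻¹ x = y at hy
    rw [act_mul _ _ hy, act_mul _ _ hy, hb _ hy, ha _ hy, ha _ (mon_mem _ hy), hb _ (mon_mem _ hy)]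
    funext ⟨n, t⟩
    fin_cases t <;> simp [mon, ruRj, ruRk, ← mul_assoc, gI_sq, sq]
  let z : σ.ker := ⟨⟨⁅a, b⁆, commutator_mem_commutator (mem_top a) (mem_top b)⟩, k1 _ _ h1⟩
  refine ⟨commutator fourRu, inferInstance, inferInstance, σ, ⟨s', fun f hf => mem_center_iff.2 fun g =>
    Subtype.ext (mem_center_iff.1 (k.le hf) g), fun f _ => ?_⟩, ?_⟩
  · obtain ⟨g, hg, e⟩ := (Mult.map_commutator_of_lift (η := (commutator fourRu).subtype) rfl s' k.le).ge f.2
    exact Subtype.ext e ▸ hg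
  · have := Fact.mk Nat.prime_two
    refine orderOf_eq_prime (x := z) (p := 2) (Subtype.ext (Subtype.ext (ext_act fun x hx => ?_))) (fun e => ?_) ▸ orderOf_dvd_natCard z
    · change act (⁅a, b⁆ ^ 2) x = act 1 x
      rw [sq, act_mul _ _ hx, h1 _ hx, h1 _ (unit_mem _ hx), act_one hx, smul_smul, ← pow_add, gI_four, one_smul]
    · have := h1 _ (vec_mem (show 0 < 4060 by norm_num))
      rw [show ⁅a, b⁆ = 1 from congrArg (fun z : σ.ker => z.1.1) e, act_one (vec_mem (by norm_num))] at this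
      exact absurd this (by decide +kernel)

end Cfsg.Lib.RuL
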