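/-
Automorphisms of a vertex transitive graph given by networks: invariant sets computed in the kernel.
-/
import Cfsg.Agent.Lib.Comp.Exact

set_option autoImplicit false

namespace Cfsg.Lib.Rfn

open Finset Cfsg.Lib.Comp

/-- `∑ 2^(k t)`. -/
def spr (k m : ℕ) : ℕ := Nat.rec (motive := fun _ => ℕ) 0 (fun t ih => Nat.add ih (Nat.shiftLeft 1 (Nat.mul k t))) m

theorem spr_succ (k m : ℕ) : spr k (m + 1) = spr k m + 2 ^ (k * m) := by
  show spr k m + 1 <<< (k * m) = _
  rw [Nat.one_shiftLeft]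

theorem spr_lt {k : ℕ} (hk : 0 < k) (m : ℕ) : spr k m < 2 ^ (k * m) := by
  induction m with
  | zero => simp [spr]
  | succ m ih =>
    have : 2 ^ (k * m) * 2 ≤ 2 ^ (k * (m + 1)) := by
      rw [← pow_succ]; exact Nat.pow_le_pow_right (by norm_num) (by rw [mul_add]; omega)
    rw [spr_succ]; omega

theorem and_spr {k : ℕ} (hk : 0 < k) (y m : ℕ) :
    y &&& spr k m = ∑ t ∈ range m, (y.testBit (k * t)).toNat * 2 ^ (k * t) := by
  induction m with
  | zero => simp [spr]
  | succ m ih =>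
    have h1 := spr_lt hk m
    have h2 : y &&& spr k m < 2 ^ (k * m) := lt_of_le_of_lt Nat.and_le_right h1
    rw [spr_succ, sum_range_succ, ← ih, add_comm, ← mul_one (2 ^ (k * m)), Nat.two_pow_add_eq_or_of_lt h1, mul_one,
      Nat.and_or_distrib_left, Nat.and_two_pow, add_comm, mul_comm (Bool.toNat _), Nat.two_pow_add_eq_or_of_lt h2]

theorem and_spr_mod {k : ℕ} (hk : 0 < k) (y m : ℕ) :
    (y &&& spr k m) ≡ ∑ t ∈ range m, (y.testBit (k * t)).toNat [MOD 2 ^ k - 1] := by
  rw [and_spr hk]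
  induction m with
  | zero => rfl
  | succ t ih =>
    have : 2 ^ (k * t) ≡ 1 [MOD 2 ^ k - 1] := by
      have := ((Nat.modEq_iff_dvd' (Nat.one_le_two_pow (n := k))).2 dvd_rfl).symm.pow t
      rwa [one_pow, ← pow_mul] at this
    rw [sum_range_succ, sum_range_succ]
    exact ih.add (by simpa using this.mul_left (y.testBit (k * t)).toNat)

theorem testBit_spr {k : ℕ} (hk : 0 < k) (m i : ℕ) : (spr k m).testBit i = decide (k ∣ i ∧ i < k * m) := by
  induction m with
  | zero => simp [spr]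
  | succ m ih =>
    rw [spr_succ, add_comm, ← mul_one (2 ^ (k * m)), Nat.two_pow_add_eq_or_of_lt (spr_lt hk m), mul_one,
      Nat.testBit_or, ih, Nat.testBit_two_pow, ← Bool.decide_or, decide_eq_decide]
    constructor
    · rintro (rfl | ⟨h1, h2⟩)
      · exact ⟨dvd_mul_right _ _, by rw [mul_add]; omega⟩
      · exact ⟨h1, by rw [mul_add]; omega⟩
    · rintro ⟨⟨j, rfl⟩, h2⟩
      have := Nat.lt_of_mul_lt_mul_left h2
      rcases Nat.lt_succ_iff_lt_or_eq.1 this with h | rfl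
      · exact Or.inr ⟨dvd_mul_right _ _, Nat.mul_lt_mul_of_pos_left h hk⟩
      · exact Or.inl rfl

theorem sum_blocks (b : ℕ → ℕ) (k m : ℕ) :
    ∑ i ∈ range k, ∑ t ∈ range m, b (i + k * t) = ∑ j ∈ range (k * m), b j := by
  induction m with
  | zero => simp
  | succ m ih =>
    simp only [sum_range_succ, sum_add_distrib, ih]
    rw [mul_add, mul_one, sum_range_add]
    simp only [add_comm (k * m)]

/-- the number of bits modulo `4095`. -/
noncomputable def pop (E x : ℕ) : ℕ :=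
  Nat.mod (Nat.rec (motive := fun _ => ℕ) 0 (fun i ih => Nat.add ih (Nat.land (Nat.shiftRight x i) E)) 12) 4095

theorem pop_eq (m x : ℕ) : pop (spr 12 m) x = (∑ j ∈ range (12 * m), (x.testBit j).toNat) % 4095 := by
  have h : ∀ k : ℕ, (Nat.rec (motive := fun _ => ℕ) 0 (fun i ih => Nat.add ih (Nat.land (Nat.shiftRight x i)
      (spr 12 m))) k : ℕ) ≡ ∑ i ∈ range k, ∑ t ∈ range m, (x.testBit (i + 12 * t)).toNat [MOD 4095] := by
    intro k
    induction k with
    | zero => rfl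
    | succ k ih =>
      rw [sum_range_succ]
      refine ih.add ?_
      have := and_spr_mod (k := 12) (by norm_num) (x >>> k) m
      simp only [Nat.testBit_shiftRight] at this
      exact this
  rw [← sum_blocks (fun j => (x.testBit j).toNat)]
  exact h 12

section
variable (n : ℕ) (adj : ℕ → ℕ → Prop)

/-- automorphisms of the graph on `[0, n)`. -/
def Aut (σ : Equiv.Perm ℕ) : Prop := Fx n σ ∧ ∀ p < n, ∀ q < n, (adj (σ p) (σ q) ↔ adj p q)

/-- `M` is the neighbourhood of `p`. -/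
def Nb (p M : ℕ) : Prop := p < n ∧ ∀ q, M.testBit q = true ↔ q < n ∧ adj p q

/-- invariant bit sets. -/
def Inv (σ : Equiv.Perm ℕ) (S : ℕ) : Prop := ∀ p, S.testBit (σ p) = S.testBit p

open Classical in
/-- number of neighbours in `S`. -/
noncomputable def cnt (S p : ℕ) : ℕ := #{q ∈ range n | adj p q ∧ S.testBit q = true}

variable {n adj}

theorem Aut.inv {σ : Equiv.Perm ℕ} (h : Aut n adj σ) : Aut n adj σ⁻¹ :=
  ⟨h.1.inv, fun p hp q hq => by
    rw [← h.2 _ (h.1.inv.lt hp) _ (h.1.inv.lt hq), app_inv, app_inv]⟩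

theorem Aut.mul {σ τ : Equiv.Perm ℕ} (h : Aut n adj σ) (h' : Aut n adj τ) : Aut n adj (σ * τ) :=
  ⟨h.1.mul h'.1, fun p hp q hq => by
    rw [Equiv.Perm.mul_apply, Equiv.Perm.mul_apply, h.2 _ (h'.1.lt hp) _ (h'.1.lt hq), h'.2 p hp q hq]⟩

theorem Nb.inv {σ : Equiv.Perm ℕ} (h : Aut n adj σ) {p M : ℕ} (hM : Nb n adj p M) (hp : σ p = p) : Inv σ M := by
  intro q
  rw [Bool.eq_iff_iff, hM.2, hM.2, h.1.lt_iff]
  exact and_congr_right fun hq => by rw [← h.2 p hM.1 q hq, hp]

theorem cnt_inv {σ : Equiv.Perm ℕ} (h : Aut n adj σ) {S p : ℕ} (hS : Inv σ S) (hp : p < n) :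
    cnt n adj S (σ p) = cnt n adj S p := by
  classical
  refine (card_bij (fun q _ => σ q) (fun q hq => ?_) (fun a _ b _ e => σ.injective e) fun q hq => ?_).symm
  · simp only [mem_filter, mem_range] at hq ⊢
    exact ⟨h.1.lt hq.1, (h.2 p hp q hq.1).2 hq.2.1, (hS q).trans hq.2.2⟩
  · simp only [mem_filter, mem_range] at hq ⊢
    have h1 := h.1.inv.lt hq.1
    exact ⟨σ⁻¹ q, ⟨h1, (h.2 p hp _ h1).1 (by rw [app_inv]; exact hq.2.1), by rw [← hS, app_inv]; exact hq.2.2⟩,
      app_inv _ _⟩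

theorem Nb.pop {p M S m : ℕ} (hM : Nb n adj p M) (hm : n ≤ 12 * m) :
    pop (spr 12 m) (Nat.land M S) = cnt n adj S p % 4095 := by
  classical
  rw [pop_eq, cnt, card_filter, ← sum_range_add_sum_Ico _ hm, sum_eq_zero (s := Ico _ _), add_zero]
  · congr 1
    refine sum_congr rfl fun q hq => ?_
    have := hM.2 q
    rw [land_eq', Nat.testBit_and]
    rw [mem_range] at hq
    cases h1 : M.testBit q <;> cases h2 : S.testBit q <;> simp_all
  · intro q hq
    have := hM.2 q
    rw [mem_Ico] at hq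
    rw [land_eq', Nat.testBit_and]
    cases h1 : M.testBit q
    · rfl
    · have := this.1 h1; omega

end

/-- the data: networks, lookup table, letters, Schreier table, neighbourhood of `0`, spread mask. -/
structure Dat where
  nets : List Net
  tb : ℕ → ℕ → ℕ
  msk : ℕ
  par : ℕ → ℕ
  N0 : ℕ
  E : ℕ

/-- correctness of the data. -/
structure Dat.OK (D : Dat) (n : ℕ) (adj : ℕ → ℕ → Prop) : Prop where
  ok : ∃ N, NetsOK N D.nets
  tb : TbA D.nets D.tb
  aut : ∀ x, D.msk.testBit x = true → Aut n adj (gp D.nets x)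
  nb : Nb n adj 0 D.N0
  E : ∃ m, n ≤ 12 * m ∧ D.E = spr 12 m

/-- neighbourhoods along the Schreier table. -/
noncomputable def nbK (D : Dat) (fuel : ℕ) : ℕ → (ℕ → Bool) → Bool :=
  Nat.rec (motive := fun _ => ℕ → (ℕ → Bool) → Bool) (fun _ _ => false) (fun _ ih p k =>
    cnd (Nat.beq p 0) (k D.N0) (force (D.par p) fun x => cnd (Nat.beq (Nat.land (Nat.shiftRight D.msk x) 1) 1)
      (force (D.tb x p) fun q => ih q fun M => force (img D.nets x M) k) false)) fuel

/-- the points of `U` with `c` neighbours in `S`. -/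
noncomputable def cntK (D : Dat) (S c : ℕ) (k : ℕ → Bool) (fuel : ℕ) : ℕ → ℕ → Bool :=
  Nat.rec (motive := fun _ => ℕ → ℕ → Bool) (fun _ _ => false) (fun _ ih U T =>
    cnd (Nat.beq U 0) (k T) (force (Nat.log2 U) fun p => nbK D 12 p fun M =>
      force (Nat.xor U (Nat.shiftLeft 1 p)) fun U' =>
        force (cnd (Nat.beq (pop D.E (Nat.land M S)) c) (Nat.lor T (Nat.shiftLeft 1 p)) T) fun T' => ih U' T')) fuel

/-- the interpreter. -/
noncomputable def run (D : Dat) (k : List ℕ → Bool) (ops : List (ℕ × ℕ × ℕ × ℕ)) : List ℕ → Bool :=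
  List.rec (motive := fun _ => List ℕ → Bool) k (fun o _ ih R =>
    force (nth 0 R o.2.1) fun A => force (nth 0 R o.2.2.1) fun B =>
      cnd (Nat.beq o.1 0) (force (Nat.land A B) fun C => ih (C :: R))
        (cnd (Nat.beq o.1 1) (force (Nat.xor A B) fun C => ih (C :: R))
          (cnd (Nat.beq o.1 2) (force (Nat.log2 A) fun p => cnd (Nat.beq A (Nat.shiftLeft 1 p))
              (nbK D 12 p fun C => ih (C :: R)) false)
            (cntK D B o.2.2.2 (fun C => ih (C :: R)) 5000 A 0)))) ops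

/-- the sets separate the points of `U`. -/
noncomputable def sep (R : List ℕ) : ℕ → Bool :=
  List.rec (motive := fun _ => ℕ → Bool) (fun U => Nat.ble U (Nat.shiftLeft 1 (Nat.log2 U)))
    (fun S _ ih U => cnd (Nat.ble U (Nat.shiftLeft 1 (Nat.log2 U))) true
      (force (Nat.land U S) fun A => cnd (ih A) (force (Nat.xor U A) ih) false)) R

variable {D : Dat} {n : ℕ} {adj : ℕ → ℕ → Prop}

theorem nbK_sound (h : D.OK n adj) {fuel p : ℕ} {k : ℕ → Bool} (e : nbK D fuel p k = true) :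
    ∃ M, Nb n adj p M ∧ k M = true := by
  induction fuel generalizing p k with
  | zero => cases e
  | succ f ih =>
    have e1 : nbK D (f + 1) p k = cnd (Nat.beq p 0) (k D.N0)
      (cnd (Nat.beq (Nat.land (Nat.shiftRight D.msk (D.par p)) 1) 1)
        (nbK D f (D.tb (D.par p) p) fun M => k (img D.nets (D.par p) M)) false) := rfl
    rw [e1, cnd_eq] at e
    split_ifs at e with h1
    · exact ⟨_, beq_tt.1 h1 ▸ h.nb, e⟩
    · rw [cnd_tt, beq_bit] at e
      obtain ⟨M, hM, e2⟩ := ih e.2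
      obtain ⟨N, hN⟩ := h.ok
      have ha := (h.aut _ e.1).inv
      rw [h.tb] at hM
      have hp := ha.1.lt_iff.1 hM.1
      refine ⟨_, ⟨hp, fun q => ?_⟩, e2⟩
      rw [testBit_img hN, hM.2, ha.1.lt_iff]
      exact and_congr_right fun hq => ha.2 p hp q hq

theorem cntK_sound (h : D.OK n adj) {S c fuel U T : ℕ} {k : ℕ → Bool} (e : cntK D S c k fuel U T = true) :
    (∀ p, U.testBit p = true → p < n) ∧ ∃ C, k C = true ∧
      ∀ p, C.testBit p = true ↔ T.testBit p = true ∨ (U.testBit p = true ∧ cnt n adj S p % 4095 = c) := by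
  induction fuel generalizing U T with
  | zero => cases e
  | succ f ih =>
    have e1 : cntK D S c k (f + 1) U T = cnd (Nat.beq U 0) (k T) (nbK D 12 U.log2 fun M =>
      cntK D S c k f (U ^^^ 1 <<< U.log2) (cnd (Nat.beq (pop D.E (Nat.land M S)) c) (T ||| 1 <<< U.log2) T)) := rfl
    rw [e1, cnd_eq] at e
    split_ifs at e with h1
    · rw [beq_tt.1 h1]; exact ⟨by simp, T, e, by simp⟩
    · obtain ⟨M, hM, e2⟩ := nbK_sound h e
      obtain ⟨m, hm, hE⟩ := h.E
      rw [hE, hM.pop hm, Nat.one_shiftLeft] at e2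
      obtain ⟨h2, C, h3, h4⟩ := ih e2
      have h5 : U.testBit U.log2 = true := Nat.testBit_log2 (by rwa [beq_tt] at h1)
      refine ⟨fun p hp => ?_, C, h3, fun p => ?_⟩
      · by_cases e : U.log2 = p
        · exact e ▸ hM.1
        · exact h2 p (by simp [Nat.testBit_two_pow, e, hp])
      · rw [h4, cnd_eq]
        simp only [beq_tt]
        by_cases e : U.log2 = p
        · subst e; split_ifs with h6 <;> simp [h5, h6]
        · split_ifs <;> simp [Nat.testBit_two_pow, e]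

theorem inv_two_pow {σ : Equiv.Perm ℕ} {p : ℕ} : Inv σ (Nat.shiftLeft 1 p) ↔ σ p = p := by
  rw [shl_eq, Nat.one_shiftLeft]
  refine ⟨fun h => ?_, fun h q => ?_⟩
  · simpa [Nat.testBit_two_pow, eq_comm] using h p
  · rw [Nat.testBit_two_pow, Nat.testBit_two_pow, decide_eq_decide, ← σ.injective.eq_iff (a := p) (b := q), h]

theorem inv_ones {σ : Equiv.Perm ℕ} (h : Fx n σ) : Inv σ (ones n) := fun p => by
  rw [testBit_ones, testBit_ones, decide_eq_decide, h.lt_iff]

theorem Inv.and {σ : Equiv.Perm ℕ} {A B : ℕ} (h : Inv σ A) (h' : Inv σ B) : Inv σ (Nat.land A B) := fun p => by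
  rw [land_eq', Nat.testBit_and, Nat.testBit_and, h, h']

theorem Inv.xor {σ : Equiv.Perm ℕ} {A B : ℕ} (h : Inv σ A) (h' : Inv σ B) : Inv σ (Nat.xor A B) := fun p => by
  rw [xor_eq', Nat.testBit_xor, Nat.testBit_xor, h, h']

theorem run_sound (h : D.OK n adj) {σ : Equiv.Perm ℕ} (hσ : Aut n adj σ) {k : List ℕ → Bool}
    {ops : List (ℕ × ℕ × ℕ × ℕ)} {R : List ℕ} (hR : ∀ S ∈ R, Inv σ S) (e : run D k ops R = true) :
    ∃ R', (∀ S ∈ R', Inv σ S) ∧ k R' = true := by
  induction ops generalizing R with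
  | nil => exact ⟨R, hR, e⟩
  | cons o t ih =>
    have h0 : ∀ i, Inv σ (nth 0 R i) := fun i => (nth_mem 0 R i).elim (fun e p => by simp [e]) (hR _)
    have h1 : ∀ C, Inv σ C → run D k t (C :: R) = true → ∃ R', (∀ S ∈ R', Inv σ S) ∧ k R' = true :=
      fun C hC => ih (List.forall_mem_cons.2 ⟨hC, hR⟩)
    have e1 : run D k (o :: t) R = cnd (Nat.beq o.1 0) (run D k t (Nat.land (nth 0 R o.2.1) (nth 0 R o.2.2.1) :: R))
      (cnd (Nat.beq o.1 1) (run D k t (Nat.xor (nth 0 R o.2.1) (nth 0 R o.2.2.1) :: R))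
        (cnd (Nat.beq o.1 2) (cnd (Nat.beq (nth 0 R o.2.1) (Nat.shiftLeft 1 (nth 0 R o.2.1).log2))
          (nbK D 12 (nth 0 R o.2.1).log2 fun C => run D k t (C :: R)) false)
          (cntK D (nth 0 R o.2.2.1) o.2.2.2 (fun C => run D k t (C :: R)) 5000 (nth 0 R o.2.1) 0))) := rfl
    rw [e1, cnd_eq, cnd_eq, cnd_eq] at e
    split_ifs at e
    · exact h1 _ ((h0 _).and (h0 _)) e
    · exact h1 _ ((h0 _).xor (h0 _)) e
    · rw [cnd_tt, beq_tt] at e
      obtain ⟨M, hM, e2⟩ := nbK_sound h e.2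
      exact h1 _ (hM.inv hσ (inv_two_pow.1 (e.1 ▸ h0 _))) e2
    · obtain ⟨h2, C, h3, h4⟩ := cntK_sound h e
      refine h1 C (fun p => ?_) h3
      rw [Bool.eq_iff_iff, h4, h4, h0]
      simp only [Nat.zero_testBit, Bool.false_eq_true, false_or]
      exact and_congr_right fun hp => by rw [cnt_inv hσ (h0 _) (h2 p hp)]

theorem fix_of_ble {σ : Equiv.Perm ℕ} {U : ℕ} (hU : Inv σ U) (e : Nat.ble U (Nat.shiftLeft 1 U.log2) = true) {p : ℕ}
    (hp : U.testBit p = true) : σ p = p := by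
  rw [ble_tt, shl_eq, Nat.one_shiftLeft] at e
  have h0 : U ≠ 0 := by rintro rfl; simp at hp
  have h1 : U = 2 ^ U.log2 := le_antisymm e (Nat.log2_self_le h0)
  have h2 := (hU p).trans hp
  rw [h1, Nat.testBit_two_pow, decide_eq_true_eq] at hp h2
  rw [← h2, hp]

theorem sep_sound {σ : Equiv.Perm ℕ} {R : List ℕ} (hR : ∀ S ∈ R, Inv σ S) {U : ℕ} (hU : Inv σ U)
    (e : sep R U = true) {p : ℕ} (hp : U.testBit p = true) : σ p = p := by
  induction R generalizing U with
  | nil => exact fix_of_ble hU e hp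
  | cons S t ih =>
    have e1 : sep (S :: t) U = cnd (Nat.ble U (Nat.shiftLeft 1 U.log2)) true
      (cnd (sep t (Nat.land U S)) (sep t (Nat.xor U (Nat.land U S))) false) := rfl
    rw [e1, cnd_eq] at e
    rw [List.forall_mem_cons] at hR
    split_ifs at e with h1
    · exact fix_of_ble hU h1 hp
    · rw [cnd_tt] at e
      cases h2 : S.testBit p
      · exact ih hR.2 (hU.xor (hU.and hR.1)) e.2 (by simp [xor_eq', land_eq', hp, h2])
      · exact ih hR.2 (hU.and hR.1) e.1 (by simp [land_eq', hp, h2])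

/-- final test of a level: `b` lies in the first register, which lies in `O`. -/
noncomputable def within (b O : ℕ) (R : List ℕ) : Bool :=
  cnd (Nat.beq (Nat.land (Nat.shiftRight (nth 0 R 0) b) 1) 1) (Nat.beq (Nat.land (nth 0 R 0) O) (nth 0 R 0)) false

/-- initial registers. -/
def regs (n : ℕ) (B : List ℕ) : List ℕ := ones n :: B.map (Nat.shiftLeft 1)

theorem regs_inv {σ : Equiv.Perm ℕ} (hσ : Aut n adj σ) {B : List ℕ} (hB : ∀ b ∈ B, σ b = b) :
    ∀ S ∈ regs n B, Inv σ S :=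
  List.forall_mem_cons.2 ⟨inv_ones hσ.1, List.forall_mem_map.2 fun b hb => inv_two_pow.2 (hB b hb)⟩

theorem level (h : D.OK n adj) {σ : Equiv.Perm ℕ} (hσ : Aut n adj σ) {B : List ℕ} (hB : ∀ b ∈ B, σ b = b)
    {ops : List (ℕ × ℕ × ℕ × ℕ)} {b O : ℕ} (e : run D (within b O) ops (regs n B) = true) :
    O.testBit (σ b) = true := by
  obtain ⟨R, hR, e⟩ := run_sound h hσ (regs_inv hσ hB) e
  have h0 : Inv σ (nth 0 R 0) := (nth_mem 0 R 0).elim (fun e p => by simp [e]) (hR _)
  rw [within, cnd_tt, beq_bit, beq_tt, ← h0] at e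
  have := e.1
  rw [← e.2, land_eq', Nat.testBit_and, Bool.and_eq_true] at this
  exact this.2

theorem last (h : D.OK n adj) {σ : Equiv.Perm ℕ} (hσ : Aut n adj σ) {B : List ℕ} (hB : ∀ b ∈ B, σ b = b)
    {ops : List (ℕ × ℕ × ℕ × ℕ)} (e : run D (fun R => sep R (ones n)) ops (regs n B) = true) : σ = 1 := by
  obtain ⟨R, hR, e⟩ := run_sound h hσ (regs_inv hσ hB) e
  exact hσ.1.eq_one fun p hp => sep_sound hR (inv_ones hσ.1) e (by rw [testBit_ones, decide_eq_true hp])

end Cfsg.Lib.Rfn
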