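/-
Invariant sets of graph automorphisms: a faster interpreter.
-/
import Cfsg.Agent.Lib.Ru.Refine
import Cfsg.Agent.Lib.Comp.Fast

set_option autoImplicit false

namespace Cfsg.Lib.Rfn

open Finset Cfsg.Lib.Comp

/-- the points of an interval passing a test. -/
noncomputable def selI (f : ℕ → Bool) (s C : ℕ) : ℕ :=
  Nat.rec (motive := fun _ => ℕ) 0 (fun i ih => force (Nat.add s i) fun p => cnd (f p) (Nat.lor ih (Nat.shiftLeft 1 p)) ih) C

theorem testBit_selI (f : ℕ → Bool) (s C p : ℕ) : (selI f s C).testBit p = true ↔ (s ≤ p ∧ p < s + C) ∧ f p = true := by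
  induction C with
  | zero => simp [selI]
  | succ i ih =>
    have e : selI f s (i + 1) = cnd (f (s + i)) (selI f s i ||| 1 <<< (s + i)) (selI f s i) := rfl
    rw [e, cnd_eq]
    by_cases h : s + i = p
    · subst h; split_ifs with h1 <;> simp [ih, h1, Nat.one_shiftLeft]
    · have : (s ≤ p ∧ p < s + (i + 1)) ↔ (s ≤ p ∧ p < s + i) := by omega
      split_ifs <;> simp [ih, this, Nat.one_shiftLeft, Nat.testBit_two_pow, h]

/-- the points passing a test. -/
noncomputable def sel (f : ℕ → Bool) (C m : ℕ) : ℕ :=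
  Nat.rec (motive := fun _ => ℕ) 0 (fun j ih => Nat.lor ih (force (Nat.mul C j) fun s => selI f s C)) m

theorem testBit_sel (f : ℕ → Bool) (C m p : ℕ) : (sel f C m).testBit p = true ↔ p < C * m ∧ f p = true := by
  induction m with
  | zero => simp [sel]
  | succ j ih =>
    have e : sel f C (j + 1) = sel f C j ||| selI f (C * j) C := rfl
    rw [e, Nat.testBit_or, Bool.or_eq_true, ih, testBit_selI, ← or_and_right, mul_add, mul_one]
    exact and_congr_left fun _ => by omega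

/-- neighbourhoods along the Schreier table. -/
noncomputable def nbV (D : Dat) (fuel : ℕ) : ℕ → ℕ :=
  Nat.rec (motive := fun _ => ℕ → ℕ) (fun _ => 0) (fun _ ih p =>
    cnd (Nat.beq p 0) D.N0 (force (D.par p) fun x => force (force (D.tb x p) ih) (img D.nets x))) fuel

/-- the Schreier table leads to `0`. -/
noncomputable def reach (D : Dat) (fuel : ℕ) : ℕ → Bool :=
  Nat.rec (motive := fun _ => ℕ → Bool) (fun _ => false) (fun _ ih p =>
    cnd (Nat.beq p 0) true (force (D.par p) fun x => cnd (Nat.beq (Nat.land (Nat.shiftRight D.msk x) 1) 1)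
      (force (D.tb x p) ih) false)) fuel

theorem nbK_of_reach {D : Dat} {fuel p : ℕ} (h : reach D fuel p = true) (k : ℕ → Bool) :
    nbK D fuel p k = k (nbV D fuel p) := by
  induction fuel generalizing p k with
  | zero => cases h
  | succ f ih =>
    have e1 : nbK D (f + 1) p k = cnd (Nat.beq p 0) (k D.N0)
      (cnd (Nat.beq (Nat.land (Nat.shiftRight D.msk (D.par p)) 1) 1)
        (nbK D f (D.tb (D.par p) p) fun M => k (img D.nets (D.par p) M)) false) := rfl
    have e2 : reach D (f + 1) p = cnd (Nat.beq p 0) true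
      (cnd (Nat.beq (Nat.land (Nat.shiftRight D.msk (D.par p)) 1) 1) (reach D f (D.tb (D.par p) p)) false) := rfl
    have e3 : nbV D (f + 1) p = cnd (Nat.beq p 0) D.N0 (img D.nets (D.par p) (nbV D f (D.tb (D.par p) p))) := rfl
    rw [e1, e3]
    rw [e2] at h
    cases h1 : Nat.beq p 0
    · rw [h1, cnd_false, cnd_tt] at h
      rw [cnd_false, cnd_false, h.1, cnd_true, ih h.2]
    · rfl

/-- one operation. -/
noncomputable def opv (D : Dat) (C m o c A B : ℕ) : ℕ :=
  cnd (Nat.beq o 0) (Nat.land A B) (cnd (Nat.beq o 1) (Nat.xor A B)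
    (cnd (Nat.beq o 2) (cnd (Nat.beq A (Nat.shiftLeft 1 c)) (cnd (Nat.ble (Nat.mul C m) c) 0 (nbV D 12 c)) 0)
      (sel (fun p => cnd (Nat.beq (Nat.land (Nat.shiftRight A p) 1) 1)
        (force (Nat.land (nbV D 12 p) B) fun M => Nat.beq (pop D.E M) c) false) C m)))

/-- the interpreter. -/
noncomputable def run2 (D : Dat) (C m : ℕ) (k : List ℕ → Bool) (ops : List (ℕ × ℕ × ℕ × ℕ)) : List ℕ → Bool :=
  List.rec (motive := fun _ => List ℕ → Bool) k (fun o _ ih R =>
    forceH (nth 0 R o.2.1) fun A => forceH (nth 0 R o.2.2.1) fun B =>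
      forceH (opv D C m o.1 o.2.2.2 A B) fun X => ih (X :: R)) ops

/-- the sets separate the points of `U`. -/
noncomputable def sep2 (R : List ℕ) : ℕ → Bool :=
  List.rec (motive := fun _ => ℕ → Bool) (fun U => Nat.beq (Nat.land U (Nat.sub U 1)) 0)
    (fun S _ ih U => cnd (Nat.beq (Nat.land U (Nat.sub U 1)) 0) true
      (forceH (Nat.land U S) fun A => cnd (ih A) (forceH (Nat.xor U A) ih) false)) R

variable {D : Dat} {C m : ℕ} {adj : ℕ → ℕ → Prop}

theorem nb_nbV (h : D.OK (C * m) adj) (hr : allR 0 C m (reach D 12) = true) {p : ℕ} (hp : p < C * m) :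
    Nb (C * m) adj p (nbV D 12 p) := by
  obtain ⟨M, a, b⟩ := nbK_sound h (fuel := 12) (p := p) (k := Nat.beq (nbV D 12 p))
    (by rw [nbK_of_reach (allR_sound hr (Nat.zero_le _) (by omega)), beq_tt])
  rwa [beq_tt.1 b]

theorem opv_inv (h : D.OK (C * m) adj) (hr : allR 0 C m (reach D 12) = true) {σ : Equiv.Perm ℕ}
    (hσ : Aut (C * m) adj σ) (o c : ℕ) {A B : ℕ} (hA : Inv σ A) (hB : Inv σ B) : Inv σ (opv D C m o c A B) := by
  simp only [opv, cnd_eq]
  split_ifs with h1 h2 h3 h4 h5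
  · exact hA.and hB
  · exact hA.xor hB
  · exact fun p => by simp
  · exact (nb_nbV h hr (by rw [ble_tt] at h5; exact not_le.1 h5)).inv hσ (inv_two_pow.1 (beq_tt.1 h4 ▸ hA))
  · exact fun p => by simp
  · intro p
    obtain ⟨e, he, hE⟩ := h.E
    rw [Bool.eq_iff_iff, testBit_sel, testBit_sel, hσ.1.lt_iff]
    refine and_congr_right fun hp => ?_
    simp only [force_eq, beq_bit, hA p, hE, (nb_nbV h hr hp).pop he, (nb_nbV h hr (hσ.1.lt hp)).pop he, cnt_inv hσ hB hp]

theorem run2_sound (h : D.OK (C * m) adj) (hr : allR 0 C m (reach D 12) = true) {σ : Equiv.Perm ℕ}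
    (hσ : Aut (C * m) adj σ) {k : List ℕ → Bool} {ops : List (ℕ × ℕ × ℕ × ℕ)} {R : List ℕ} (hR : ∀ S ∈ R, Inv σ S)
    (e : run2 D C m k ops R = true) : ∃ R', (∀ S ∈ R', Inv σ S) ∧ k R' = true := by
  induction ops generalizing R with
  | nil => exact ⟨R, hR, e⟩
  | cons o t ih =>
    have h0 : ∀ i, Inv σ (nth 0 R i) := fun i => (nth_mem 0 R i).elim (fun e p => by simp [e]) (hR _)
    exact ih (List.forall_mem_cons.2 ⟨opv_inv h hr hσ o.1 o.2.2.2 (h0 o.2.1) (h0 o.2.2.1), hR⟩) e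

theorem fix_of_and {σ : Equiv.Perm ℕ} {U : ℕ} (hU : Inv σ U) (e : Nat.beq (Nat.land U (Nat.sub U 1)) 0 = true) {p : ℕ}
    (hp : U.testBit p = true) : σ p = p := by
  have h0 : U ≠ 0 := by rintro rfl; simp at hp
  obtain ⟨k, h1⟩ := (Nat.and_sub_one_eq_zero_iff_isPowerOfTwo h0).1 (beq_tt.1 e)
  have h2 := (hU p).trans hp
  rw [h1, Nat.testBit_two_pow, decide_eq_true_eq] at hp h2
  rw [← h2, hp]

theorem sep2_sound {σ : Equiv.Perm ℕ} {R : List ℕ} (hR : ∀ S ∈ R, Inv σ S) {U : ℕ} (hU : Inv σ U)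
    (e : sep2 R U = true) {p : ℕ} (hp : U.testBit p = true) : σ p = p := by
  induction R generalizing U with
  | nil => exact fix_of_and hU e hp
  | cons S t ih =>
    have e1 : sep2 (S :: t) U = cnd (Nat.beq (Nat.land U (Nat.sub U 1)) 0) true
      (cnd (sep2 t (Nat.land U S)) (sep2 t (Nat.xor U (Nat.land U S))) false) := rfl
    rw [e1, cnd_eq] at e
    rw [List.forall_mem_cons] at hR
    split_ifs at e with h1
    · exact fix_of_and hU h1 hp
    · rw [cnd_tt] at e
      cases h2 : S.testBit p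
      · exact ih hR.2 (hU.xor (hU.and hR.1)) e.2 (by simp [xor_eq', land_eq', hp, h2])
      · exact ih hR.2 (hU.and hR.1) e.1 (by simp [land_eq', hp, h2])

theorem level2 (h : D.OK (C * m) adj) (hr : allR 0 C m (reach D 12) = true) {σ : Equiv.Perm ℕ}
    (hσ : Aut (C * m) adj σ) {B : List ℕ} (hB : ∀ b ∈ B, σ b = b) {ops : List (ℕ × ℕ × ℕ × ℕ)} {b a n : ℕ}
    (e : run2 D C m (within b (itv a n)) ops (regs (C * m) B) = true) : a ≤ σ b ∧ σ b < a + n := by
  obtain ⟨R, hR, e⟩ := run2_sound h hr hσ (regs_inv hσ hB) e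
  have h0 : Inv σ (nth 0 R 0) := (nth_mem 0 R 0).elim (fun e p => by simp [e]) (hR _)
  rw [within, cnd_tt, beq_bit, beq_tt, ← h0] at e
  have := e.1
  rw [← e.2, land_eq', Nat.testBit_and, Bool.and_eq_true, testBit_itv, decide_eq_true_eq] at this
  exact this.2

theorem last2 (h : D.OK (C * m) adj) (hr : allR 0 C m (reach D 12) = true) {σ : Equiv.Perm ℕ}
    (hσ : Aut (C * m) adj σ) {B : List ℕ} (hB : ∀ b ∈ B, σ b = b) {ops : List (ℕ × ℕ × ℕ × ℕ)}
    (e : run2 D C m (fun R => sep2 R (ones (C * m))) ops (regs (C * m) B) = true) : σ = 1 := by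
  obtain ⟨R, hR, e⟩ := run2_sound h hr hσ (regs_inv hσ hB) e
  exact hσ.1.eq_one fun p hp => sep2_sound hR (inv_ones hσ.1) e (by rw [testBit_ones, decide_eq_true hp])

end Cfsg.Lib.Rfn
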