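/-
The Hermitian form on the rank 28 Gaussian lattice, and the action of its automorphism group.
-/
import Cfsg.Prelude.Def_Spor_Ru

set_option autoImplicit false

namespace Cfsg.Lib.RuL

open Finset Cfsg.Spor

/-- the Hermitian product. -/
def hp (v w : RuVec) : GaussianInt := ∑ p, v p * star (w p)

theorem hp_add_left (u v w : RuVec) : hp (u + v) w = hp u w + hp v w := by
  simp [hp, add_mul, sum_add_distrib]

theorem hp_add_right (u v w : RuVec) : hp u (v + w) = hp u v + hp u w := by
  simp [hp, mul_add, sum_add_distrib]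

theorem hp_smul_left (c : GaussianInt) (v w : RuVec) : hp (c • v) w = c * hp v w := by
  simp [hp, mul_sum, mul_assoc]

theorem hp_smul_right (c : GaussianInt) (v w : RuVec) : hp v (c • w) = star c * hp v w := by
  simp only [hp, mul_sum, Pi.smul_apply, smul_eq_mul, star_mul]
  exact sum_congr rfl fun p _ => by ring

theorem hp_neg_left (v w : RuVec) : hp (-v) w = -hp v w := by simp [hp]

theorem hp_self (v : RuVec) : hp v v = (ruNorm v : GaussianInt) := by
  simp [hp, ruNorm, Zsqrtd.norm_eq_mul_conj]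

theorem star_hp (v w : RuVec) : star (hp v w) = hp w v := by
  simp [hp, mul_comm]

theorem norm_add (v w : RuVec) : ruNorm (v + w) = ruNorm v + ruNorm w + 2 * (hp v w).re := by
  have h := congrArg Zsqrtd.re (hp_self (v + w))
  rw [hp_add_left, hp_add_right, hp_add_right, hp_self, hp_self, ← star_hp v w] at h
  simp at h
  omega

theorem gI_sq : gI * gI = -1 := by decide
theorem gI_four : gI ^ 4 = 1 := by decide
theorem gI_star (k : ℕ) : gI ^ k * star (gI ^ k) = 1 := by
  rw [star_pow, ← mul_pow, show gI * star gI = 1 by decide, one_pow]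

theorem gI_ne (k : ℕ) : gI ^ k ≠ 0 := left_ne_zero_of_mul_eq_one (gI_star k)

theorem gI_inv (k : ℕ) : gI ^ (3 * k) * gI ^ k = 1 := by
  rw [← pow_add, show 3 * k + k = 4 * k by ring, pow_mul, gI_four, one_pow]

theorem smul_swap {k : ℕ} {x y : RuVec} (h : x = gI ^ k • y) : y = gI ^ (3 * k) • x := by
  rw [h, smul_smul, gI_inv, one_smul]

theorem norm_smul' (c : GaussianInt) (v : RuVec) : ruNorm (c • v) = c.norm * ruNorm v := by
  simp [ruNorm, mul_sum, Zsqrtd.norm_mul]

theorem norm_unit (k : ℕ) (v : RuVec) : ruNorm (gI ^ k • v) = ruNorm v := by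
  have := hp_self (gI ^ k • v)
  rw [hp_smul_left, hp_smul_right, ← mul_assoc, gI_star, one_mul, hp_self] at this
  exact_mod_cast this.symm

theorem eq_zero_of_norm {v : RuVec} (h : ruNorm v = 0) : v = 0 := funext fun p =>
  GaussianInt.norm_eq_zero.1 ((sum_eq_zero_iff_of_nonneg fun p _ => GaussianInt.norm_nonneg (v p)).1 h p (mem_univ p))

theorem norm_nonneg' (v : RuVec) : 0 ≤ ruNorm v := sum_nonneg fun p _ => GaussianInt.norm_nonneg (v p)

theorem unit_mem (k : ℕ) {v : RuVec} (hv : v ∈ ruLattice) : gI ^ k • v ∈ ruLattice := by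
  induction k with
  | zero => simpa using hv
  | succ k ih => rw [pow_succ', mul_smul]; exact gI_smul_mem_ruLattice ih

theorem four_inj {x y : RuVec} (h : (4 : GaussianInt) • x = (4 : GaussianInt) • y) : x = y :=
  smul_right_injective RuVec (by decide : (4 : GaussianInt) ≠ 0) h

open Classical in
/-- the action on coordinate vectors. -/
noncomputable def act (f : fourRu) (x : RuVec) : RuVec := if h : x ∈ ruLattice then (f.1 ⟨x, h⟩ : RuVec) else 0

theorem act_eq (f : fourRu) {x : RuVec} (h : x ∈ ruLattice) : act f x = f.1 ⟨x, h⟩ := dif_pos h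

theorem act_mem (f : fourRu) {x : RuVec} (h : x ∈ ruLattice) : act f x ∈ ruLattice := act_eq f h ▸ (f.1 ⟨x, h⟩).2

theorem act_add (f : fourRu) {x y : RuVec} (h : x ∈ ruLattice) (h' : y ∈ ruLattice) :
    act f (x + y) = act f x + act f y := by
  rw [act_eq f h, act_eq f h', act_eq f (add_mem h h')]
  exact congrArg Subtype.val (f.2.1 ⟨x, h⟩ ⟨y, h'⟩)

theorem act_I (f : fourRu) {x : RuVec} (h : x ∈ ruLattice) : act f (gI • x) = gI • act f x := by
  rw [act_eq f h, act_eq f (gI_smul_mem_ruLattice h)]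
  exact congrArg Subtype.val (f.2.2.1 ⟨x, h⟩)

theorem act_unit (f : fourRu) (k : ℕ) {x : RuVec} (h : x ∈ ruLattice) : act f (gI ^ k • x) = gI ^ k • act f x := by
  induction k with
  | zero => simp
  | succ k ih => rw [pow_succ', mul_smul, act_I f (unit_mem k h), ih, mul_smul]

theorem act_norm (f : fourRu) {x : RuVec} (h : x ∈ ruLattice) : ruNorm (act f x) = ruNorm x := by
  rw [act_eq f h]; exact f.2.2.2 ⟨x, h⟩

theorem act_hp (f : fourRu) {x y : RuVec} (h : x ∈ ruLattice) (h' : y ∈ ruLattice) :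
    hp (act f x) (act f y) = hp x y := by
  have re : ∀ x ∈ ruLattice, (hp (act f x) (act f y)).re = (hp x y).re := fun x h => by
    have := act_norm f (add_mem h h')
    rw [act_add f h h', norm_add, norm_add, act_norm f h, act_norm f h'] at this
    omega
  have := re _ (gI_smul_mem_ruLattice h)
  rw [act_I f h, hp_smul_left, hp_smul_left] at this
  exact Zsqrtd.ext (re x h) (by simpa [gI] using this)

theorem act_mul (f g : fourRu) {x : RuVec} (h : x ∈ ruLattice) : act (f * g) x = act f (act g x) := by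
  rw [act_eq _ h, act_eq f (act_mem g h)]
  simp only [act_eq g h]
  rfl

theorem act_one {x : RuVec} (h : x ∈ ruLattice) : act 1 x = x := act_eq 1 h

theorem act_inv (f : fourRu) {x : RuVec} (h : x ∈ ruLattice) : act f⁻¹ (act f x) = x := by
  rw [← act_mul _ _ h, inv_mul_cancel, act_one h]

theorem act_inv' (f : fourRu) {x : RuVec} (h : x ∈ ruLattice) : act f (act f⁻¹ x) = x := act_inv f⁻¹ h

theorem ext_act {f g : fourRu} (h : ∀ x ∈ ruLattice, act f x = act g x) : f = g :=
  Subtype.ext (Equiv.ext fun v => Subtype.ext ((act_eq f v.2).symm.trans ((h v v.2).trans (act_eq g v.2))))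

theorem exists_aut (A : RuVec →ₗ[GaussianInt] RuVec) (hn : ∀ x, ruNorm (A x) = 16 * ruNorm x)
    (h1 : ∀ x ∈ ruLattice, ∃ y ∈ ruLattice, A x = (4 : GaussianInt) • y)
    (h2 : ∀ y ∈ ruLattice, ∃ x ∈ ruLattice, A x = (4 : GaussianInt) • y) :
    ∃ f : fourRu, ∀ x ∈ ruLattice, A x = (4 : GaussianInt) • act f x := by
  choose F hF hF' using h1
  let G : ruLattice → ruLattice := fun v => ⟨F v v.2, hF v v.2⟩
  have hG : ∀ v : ruLattice, A v = (4 : GaussianInt) • (G v : RuVec) := fun v => hF' v v.2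
  have hb : Function.Bijective G := by
    refine ⟨fun v w e => Subtype.ext (sub_eq_zero.1 (eq_zero_of_norm ?_)), fun w => ?_⟩
    · have := hn (v - w)
      rw [map_sub, hG, hG, e, sub_self, show ruNorm 0 = 0 by simp [ruNorm]] at this
      omega
    · obtain ⟨x, hx, e⟩ := h2 w w.2
      exact ⟨⟨x, hx⟩, Subtype.ext (four_inj ((hG ⟨x, hx⟩).symm.trans e))⟩
  refine ⟨⟨Equiv.ofBijective G hb, fun v w => Subtype.ext (four_inj ?_), fun v => Subtype.ext (four_inj ?_),
    fun v => ?_⟩, fun x hx => by rw [act_eq _ hx]; exact hG ⟨x, hx⟩⟩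
  · change (4 : GaussianInt) • (G (v + w) : RuVec) = (4 : GaussianInt) • ((G v : RuVec) + G w)
    rw [smul_add, ← hG, ← hG, ← hG, ← map_add]; rfl
  · change (4 : GaussianInt) • (G (ruI v) : RuVec) = (4 : GaussianInt) • gI • (G v : RuVec)
    rw [smul_comm, ← hG, ← hG, ← map_smul]; rfl
  · have := hn v
    rw [hG, norm_smul', show (4 : GaussianInt).norm = 16 by decide] at this
    change ruNorm (G v : RuVec) = _
    omega

/-- the scalar automorphism. -/
theorem exists_iota : ∃ f : fourRu, ∀ x ∈ ruLattice, act f x = gI • x := by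
  obtain ⟨f, hf⟩ := exists_aut (((4 : GaussianInt) * gI) • LinearMap.id) (fun x => by
    rw [LinearMap.smul_apply, norm_smul', show (4 * gI).norm = 16 by decide]; rfl)
    (fun x hx => ⟨_, gI_smul_mem_ruLattice hx, mul_smul 4 gI x⟩)
    (fun y hy => ⟨_, unit_mem 3 hy, by
      rw [LinearMap.smul_apply, LinearMap.id_apply, smul_smul, mul_assoc, ← pow_succ', gI_four, mul_one]⟩)
  exact ⟨f, fun x hx => four_inj (by rw [← hf x hx, ← mul_smul]; rfl)⟩

theorem hp_comb {W : RuIdx → RuVec} (h : ∀ k l, hp (W k) (W l) = if k = l then 16 else 0) (x : RuVec) :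
    ruNorm (Fintype.linearCombination GaussianInt W x) = 16 * ruNorm x := by
  have h1 : ∀ (s : Finset RuIdx) (a : RuIdx → RuVec) (w : RuVec), hp (∑ k ∈ s, a k) w = ∑ k ∈ s, hp (a k) w := by
    intro s a w
    simp only [hp, Finset.sum_apply, sum_mul]
    exact sum_comm
  have h2 : ∀ (s : Finset RuIdx) (a : RuIdx → RuVec) (w : RuVec), hp w (∑ k ∈ s, a k) = ∑ k ∈ s, hp w (a k) := by
    intro s a w
    rw [← star_hp, h1, star_sum]
    simp only [star_hp]
  have := hp_self (Fintype.linearCombination GaussianInt W x)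
  rw [Fintype.linearCombination_apply] at this ⊢
  simp only [h1, h2, hp_smul_left, hp_smul_right, h, mul_ite, mul_zero, sum_ite_eq, mem_univ, if_true] at this
  have h3 : ((16 * ruNorm x : ℤ) : GaussianInt) = ∑ k, star (x k) * (x k * 16) := by
    rw [Int.cast_mul, ← hp_self, hp, mul_sum]
    exact sum_congr rfl fun k _ => by push_cast; ring
  exact_mod_cast this.symm.trans h3.symm

/-! ### Real coordinates -/

/-- the number of an index. -/
def idx (p : RuIdx) : ℕ := 4 * p.1.val + p.2.val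

/-- the index of a number. -/
def ix (j : ℕ) : RuIdx := (Fin.ofNat 7 (j / 4), Fin.ofNat 4 j)

theorem idx_lt (p : RuIdx) : idx p < 28 := by revert p; decide
theorem ix_idx (p : RuIdx) : ix (idx p) = p := by revert p; decide
theorem idx_ix {j : ℕ} (h : j < 28) : idx (ix j) = j := by revert j; decide

theorem sum_ix {M : Type*} [AddCommMonoid M] (F : RuIdx → M) : ∑ p, F p = ∑ j ∈ range 28, F (ix j) :=
  sum_nbij' idx ix (fun p _ => mem_range.2 (idx_lt p)) (fun _ _ => mem_univ _) (fun p _ => ix_idx p)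
    (fun _ h => idx_ix (mem_range.1 h)) fun p _ => by rw [ix_idx]

/-- real coordinates. -/
def rc (x : RuVec) (j : ℕ) : ℤ := if j < 28 then (x (ix j)).re else (x (ix (j - 28))).im

theorem rc_lo (x : RuVec) {j : ℕ} (h : j < 28) : rc x j = (x (ix j)).re := if_pos h
theorem rc_hi (x : RuVec) (j : ℕ) : rc x (28 + j) = (x (ix j)).im := by
  rw [rc, if_neg (by omega), Nat.add_sub_cancel_left]

theorem sum56 {M : Type*} [AddCommMonoid M] (F : ℕ → M) :
    ∑ j ∈ range 56, F j = ∑ j ∈ range 28, (F j + F (28 + j)) := by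
  rw [sum_add_distrib, ← sum_range_add]

theorem rc_add (x y : RuVec) (j : ℕ) : rc (x + y) j = rc x j + rc y j := by unfold rc; split_ifs <;> simp
theorem rc_sub (x y : RuVec) (j : ℕ) : rc (x - y) j = rc x j - rc y j := by unfold rc; split_ifs <;> simp
theorem rc_neg (x : RuVec) (j : ℕ) : rc (-x) j = -rc x j := by unfold rc; split_ifs <;> simp
theorem rc_zero (j : ℕ) : rc 0 j = 0 := by unfold rc; split_ifs <;> simp

theorem rc_I (x : RuVec) {j : ℕ} (h : j < 28) : rc (gI • x) j = -rc x (28 + j) ∧ rc (gI • x) (28 + j) = rc x j := by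
  rw [rc_lo _ h, rc_lo _ h, rc_hi, rc_hi]; simp [gI]

theorem rc_ext {x y : RuVec} (h : ∀ j < 56, rc x j = rc y j) : x = y := funext fun p => by
  have h1 := h _ ((idx_lt p).trans (by norm_num))
  have h2 := h (28 + idx p) (by have := idx_lt p; omega)
  rw [rc_lo _ (idx_lt p), rc_lo _ (idx_lt p), ix_idx] at h1
  rw [rc_hi, rc_hi, ix_idx] at h2
  exact Zsqrtd.ext h1 h2

theorem re_sum (s : Finset ℕ) (F : ℕ → GaussianInt) : (∑ j ∈ s, F j).re = ∑ j ∈ s, (F j).re := by
  induction s using Finset.cons_induction <;> simp [*]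

theorem im_sum (s : Finset ℕ) (F : ℕ → GaussianInt) : (∑ j ∈ s, F j).im = ∑ j ∈ s, (F j).im := by
  induction s using Finset.cons_induction <;> simp [*]

theorem hp_re (x y : RuVec) : (hp x y).re = ∑ j ∈ range 56, rc x j * rc y j := by
  rw [hp, sum_ix, re_sum, sum56]
  refine sum_congr rfl fun j hj => ?_
  rw [rc_lo _ (mem_range.1 hj), rc_lo _ (mem_range.1 hj), rc_hi, rc_hi]; simp

theorem hp_im (x y : RuVec) :
    (hp x y).im = ∑ j ∈ range 28, rc x (28 + j) * rc y j - ∑ j ∈ range 28, rc x j * rc y (28 + j) := by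
  rw [hp, sum_ix, im_sum, ← sum_sub_distrib]
  refine sum_congr rfl fun j hj => ?_
  rw [rc_lo _ (mem_range.1 hj), rc_lo _ (mem_range.1 hj), rc_hi, rc_hi]; simp; ring

theorem norm_rc (x : RuVec) : ruNorm x = ∑ j ∈ range 56, rc x j * rc x j := by
  rw [← hp_re, hp_self]; simp

theorem sq_le_norm (x : RuVec) {j : ℕ} (h : j < 56) : rc x j * rc x j ≤ ruNorm x := by
  rw [norm_rc]
  exact single_le_sum (f := fun j => rc x j * rc x j) (fun j _ => mul_self_nonneg _) (mem_range.2 h)

theorem abs_le_of_norm {x : RuVec} {a : ℤ} (ha : 0 ≤ a) (h : ruNorm x ≤ a * a) {j : ℕ} (hj : j < 56) : |rc x j| ≤ a :=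
  abs_le_of_sq_le_sq' (by have := sq_le_norm x hj; nlinarith) ha |> abs_le.2

end Cfsg.Lib.RuL
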