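/-
Vectors coded by natural numbers; kernel tests for norms, products and linear maps.
-/
import Cfsg.Agent.Lib.Ru.Basic
import Cfsg.Agent.Lib.Ru.Refine
import Cfsg.Agent.Lib.Comp.TVec
import Cfsg.Agent.Lib.Comp.Fast

set_option autoImplicit false

namespace Cfsg.Lib.RuL

open Finset Cfsg.Spor Cfsg.Lib.Comp Cfsg.Lib.Rfn

/-- the vector with a given code. -/
def vecT (T : ℕ) : RuVec := fun p => ⟨(look T 8 (idx p) : ℤ) - 4, (look T 8 (28 + idx p) : ℤ) - 4⟩

theorem rc_vecT (T : ℕ) {j : ℕ} (h : j < 56) : rc (vecT T) j = look T 8 j - 4 := by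
  unfold rc vecT
  split_ifs with h1
  · simp only [idx_ix h1]
  · simp only [idx_ix (show j - 28 < 28 by omega), show 28 + (j - 28) = j by omega]

theorem look_zero (T : ℕ) : look T 8 0 = Nat.land T 255 := rfl

theorem look_shift (T a j : ℕ) : look (Nat.shiftRight T (8 * a)) 8 j = look T 8 (a + j) := by
  rw [look_div, look_div, shr_eq, Nat.shiftRight_eq_div_pow, Nat.div_div_eq_div_mul, ← pow_add, mul_add]

/-- a digit. -/
def dg (T j : ℕ) : ℕ := Nat.land (Nat.shiftRight T (Nat.mul 8 j)) 255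

theorem dg_eq (T j : ℕ) : dg T j = look T 8 j := rfl

/-- shifted dot product of digits. -/
noncomputable def dt (n a b c : ℕ) : ℕ :=
  Nat.rec (motive := fun _ => ℕ) c (fun j ih =>
    Nat.add ih (Nat.sub (Nat.add (Nat.mul (dg a j) (dg b j)) 2056) (Nat.mul 4 (Nat.add (dg a j) (dg b j))))) n

theorem dt_eq (n a b c : ℕ) :
    (dt n a b c : ℤ) = c + ∑ j ∈ range n, ((look a 8 j : ℤ) - 4) * (look b 8 j - 4) + 2040 * n := by
  induction n with
  | zero => simp [dt]
  | succ n ih =>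
    have e : dt (n + 1) a b c = dt n a b c + (look a 8 n * look b 8 n + 2056 - 4 * (look a 8 n + look b 8 n)) := rfl
    have h1 := look_lt a 8 n
    have h2 := look_lt b 8 n
    rw [e, Nat.cast_add, ih, sum_range_succ, Nat.cast_sub (by omega)]
    push_cast; ring

theorem re_vecT (a b : ℕ) : (hp (vecT a) (vecT b)).re = dt 56 a b 0 - 114240 := by
  rw [hp_re, dt_eq, sum_congr rfl fun j hj => by rw [rc_vecT a (mem_range.1 hj), rc_vecT b (mem_range.1 hj)]]
  push_cast; ring

theorem im_vecT (a b : ℕ) :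
    (hp (vecT a) (vecT b)).im = dt 28 (Nat.shiftRight a 224) b 0 - dt 28 a (Nat.shiftRight b 224) 0 := by
  rw [hp_im, dt_eq, dt_eq,
    sum_congr rfl fun j hj => by
      rw [rc_vecT a (by have := mem_range.1 hj; omega), rc_vecT b (by have := mem_range.1 hj; omega)],
    sum_congr (s₁ := range 28) (f := fun j => rc (vecT a) j * _) rfl fun j hj => by
      rw [rc_vecT a (by have := mem_range.1 hj; omega), rc_vecT b (by have := mem_range.1 hj; omega)]]
  simp only [show 224 = 8 * 28 from rfl, look_shift]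
  push_cast; ring

/-- the code of a vector of norm 16. -/
noncomputable def codeB (T : ℕ) : Bool := cnd (Nat.beq (Nat.shiftRight T 448) 0) (Nat.beq (dt 56 T T 0) 114256) false

theorem of_codeB {T : ℕ} (h : codeB T = true) : T < 2 ^ 448 ∧ ruNorm (vecT T) = 16 := by
  rw [codeB, cnd_tt, beq_tt, beq_tt, shr_eq, Nat.shiftRight_eq_div_pow, Nat.div_eq_zero_iff_lt (by positivity)] at h
  have := re_vecT T T
  rw [hp_self, h.2] at this
  exact ⟨h.1, by simpa using this⟩

/-- linear combination with the digits as coefficients. -/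
noncomputable def linN (n : ℕ) (cs : List ℕ) (T c : ℕ) : ℕ :=
  Nat.rec (motive := fun _ => ℕ) c (fun j ih => Nat.add ih (Nat.mul (dg T j) (nth 0 cs j))) n

theorem linN_eq (n : ℕ) (cs : List ℕ) (T c : ℕ) : linN n cs T c = c + ∑ j ∈ range n, look T 8 j * nth 0 cs j := by
  induction n with
  | zero => simp [linN]
  | succ n ih =>
    have e : linN (n + 1) cs T c = linN n cs T c + look T 8 n * nth 0 cs n := rfl
    rw [e, ih, sum_range_succ, add_assoc]

/-- linear combination of 56 terms. -/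
noncomputable def lin (cs : List ℕ) (T c : ℕ) : ℕ := linN 56 cs T c

theorem lin_eq (cs : List ℕ) (T c : ℕ) : lin cs T c = c + ∑ j ∈ range 56, look T 8 j * nth 0 cs j := linN_eq _ _ _ _

/-- the modulus. -/
def MM : ℕ := 0x10000000000000000000000000000000000000000000000000000000000000000000000000000000000000000000000000000000000000001
/-- a square root of `-1`. -/
def YY : ℕ := 0x100000000000000000000000000000000000000000000000000000000
/-- all digits one. -/
def OO : ℕ := 0x101010101010101010101010101010101010101010101010101010101010101010101010101010101010101010101010101010101010101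
/-- the offset. -/
def KK : ℕ := 0xfbfbfbfbfbfbfbfbfbfbfbfbfbfbfbfbfbfbfbfbfbfbfbfbfbfbfbfbfbfbfbfbfbfbfbfbfbfbfbfbfbfbfbfbfbfbfbfbfbfbfbfbfbfbfbfd

theorem OO_eq : OO = spr 8 56 := by decide +kernel

/-- the packed value. -/
def val (x : RuVec) : ℤ := ∑ j ∈ range 56, rc x j * 256 ^ j

theorem digits (a : ℕ → ℤ) (n : ℕ) (h : ∀ j < n, |a j| ≤ 255) :
    |∑ j ∈ range n, a j * 256 ^ j| < 256 ^ n ∧ (∑ j ∈ range n, a j * 256 ^ j = 0 → ∀ j < n, a j = 0) := by
  induction n with
  | zero => simp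
  | succ n ih =>
    obtain ⟨h1, h2⟩ := ih fun j hj => h j (by omega)
    have h3 := abs_le.1 (h n (by omega))
    have h4 : (0 : ℤ) < 256 ^ n := by positivity
    rw [abs_lt] at h1
    rw [sum_range_succ, pow_succ, abs_lt]
    refine ⟨⟨by nlinarith, by nlinarith⟩, fun e => ?_⟩
    have h5 : a n = 0 := by
      rcases lt_trichotomy (a n) 0 with h | h | h
      · nlinarith
      · exact h
      · nlinarith
    intro j hj
    rcases Nat.lt_succ_iff_lt_or_eq.1 hj with h | rfl
    · exact h2 (by simpa [h5] using e) j h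
    · exact h5

/-- the packed value modulo `MM`. -/
def phi : RuVec →+ ZMod MM := AddMonoidHom.mk' (fun x => (val x : ZMod MM)) fun x y => by
  simp only [val, rc_add, add_mul, sum_add_distrib, Int.cast_add]

theorem phi_eq (x : RuVec) : phi x = ∑ j ∈ range 56, (rc x j : ZMod MM) * 256 ^ j := by
  change ((val x : ℤ) : ZMod MM) = _
  simp [val]

theorem phi_inj {x : RuVec} (h : ruNorm x ≤ 255 * 255) (e : phi x = 0) : x = 0 := by
  obtain ⟨h1, h2⟩ := digits (rc x) 56 fun j hj => abs_le_of_norm (by norm_num) h hj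
  have h3 := Int.eq_zero_of_abs_lt_dvd ((ZMod.intCast_zmod_eq_zero_iff_dvd _ MM).1 e) (h1.trans (by decide +kernel))
  exact rc_ext fun j hj => (h2 h3 j hj).trans (rc_zero j).symm

theorem cast_zero {a : ℕ} (h : Nat.mod a MM = 0) : (a : ZMod MM) = 0 := (ZMod.natCast_eq_zero_iff _ _).2 (Nat.dvd_of_mod_eq_zero h)

theorem YY_eq : (YY : ZMod MM) = 256 ^ 28 := by
  rw [show YY = 256 ^ 28 by decide +kernel]; push_cast; rfl

theorem YY_sq : (YY : ZMod MM) * YY = -1 := by
  rw [eq_neg_iff_add_eq_zero]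
  exact_mod_cast cast_zero (a := YY * YY + 1) (by decide +kernel)

theorem phi_I (x : RuVec) : phi (gI • x) = YY * phi x := by
  rw [phi_eq, phi_eq, sum56, sum56, mul_sum]
  refine sum_congr rfl fun j hj => ?_
  rw [(rc_I x (mem_range.1 hj)).1, (rc_I x (mem_range.1 hj)).2, pow_add, ← YY_eq]
  push_cast
  linear_combination (-(rc x (28 + j) : ZMod MM) * 256 ^ j) * YY_sq

theorem phi_unit (k : ℕ) (x : RuVec) : phi (gI ^ k • x) = YY ^ k * phi x := by
  induction k with
  | zero => simp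
  | succ k ih => rw [pow_succ', mul_smul, phi_I, ih, pow_succ', mul_assoc]

theorem phi_smul (c : GaussianInt) (x : RuVec) : phi (c • x) = (c.re + c.im * YY) * phi x := by
  have : c • x = c.re • x + c.im • gI • x := by
    funext p
    simp only [Pi.smul_apply, Pi.add_apply, smul_eq_mul, zsmul_eq_mul]
    ext <;> simp [gI] <;> ring
  rw [this, map_add, map_zsmul, map_zsmul, phi_I]
  simp only [zsmul_eq_mul]; ring

theorem sum_look (T n : ℕ) : ∑ j ∈ range n, look T 8 j * 256 ^ j = T % 256 ^ n := by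
  induction n with
  | zero => simp [Nat.mod_one]
  | succ n ih => rw [sum_range_succ, ih, Nat.mod_pow_succ, look_div, pow_mul, mul_comm]; norm_num

theorem phi_vecT {T : ℕ} (h : T < 2 ^ 448) : phi (vecT T) = T + KK := by
  have h1 : ((∑ j ∈ range 56, 4 * 256 ^ j + KK : ℕ) : ZMod MM) = 0 := cast_zero (by decide +kernel)
  have h2 := congrArg (Nat.cast : ℕ → ZMod MM) (sum_look T 56)
  rw [Nat.mod_eq_of_lt (h.trans_eq (by decide +kernel))] at h2
  rw [phi_eq, sum_congr rfl fun j hj => by rw [rc_vecT T (mem_range.1 hj)], ← h2]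
  push_cast at h1 ⊢
  simp only [sub_mul, sum_sub_distrib]
  linear_combination -h1

/-- the images of the frame. -/
noncomputable def frm (ψ : List ℕ) (k : RuIdx) : RuVec := vecT (Nat.sub (nth 0 ψ (idx k)) KK)

/-- the linear map with the given images of the frame. -/
noncomputable def lmap (ψ : List ℕ) : RuVec →ₗ[GaussianInt] RuVec := Fintype.linearCombination GaussianInt (frm ψ)

/-- test of the table of a linear map. -/
noncomputable def genG (M Y O C : ℕ) (ψ : List ℕ) (K : ℕ) : Bool :=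
  cnd (Nat.beq ψ.length 56) (cnd (Nat.beq (Nat.mod (Nat.add K (Nat.mul 4 (lin ψ O 0))) M) 0)
    (allN 28 fun k => forceH (Nat.sub (nth 0 ψ k) C) fun a => cnd (Nat.ble C (nth 0 ψ k))
      (cnd (Nat.beq (Nat.shiftRight a 448) 0) (cnd (Nat.beq (Nat.mod (Nat.mul (nth 0 ψ k) Y) M) (nth 0 ψ (Nat.add 28 k)))
        (allN 28 fun l => forceH (Nat.sub (nth 0 ψ l) C) fun b =>
          cnd (Nat.beq (dt 56 a b 0) (cnd (Nat.beq k l) 114256 114240))
            (Nat.beq (dt 28 (Nat.shiftRight a 224) b 0) (dt 28 a (Nat.shiftRight b 224) 0)) false) false) false) false)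
    false) false

theorem of_genG {M Y O C : ℕ} {ψ : List ℕ} {K : ℕ} (h : genG M Y O C ψ K = true) : ψ.length = 56 ∧
    ((K + 4 * lin ψ O 0 : ℕ) : ZMod M) = 0 ∧ ∀ k < 28, C ≤ nth 0 ψ k ∧ Nat.sub (nth 0 ψ k) C < 2 ^ 448 ∧
      ((nth 0 ψ (28 + k) : ℕ) : ZMod M) = (nth 0 ψ k : ℕ) * Y ∧ ∀ l < 28,
        hp (vecT (Nat.sub (nth 0 ψ k) C)) (vecT (Nat.sub (nth 0 ψ l) C)) = if k = l then 16 else 0 := by
  rw [genG, cnd_tt, cnd_tt, allN_iff, beq_tt, beq_tt] at h
  refine ⟨h.1, (ZMod.natCast_eq_zero_iff _ _).2 (Nat.dvd_of_mod_eq_zero h.2.1), fun k hk => ?_⟩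
  have h1 := h.2.2 k hk
  rw [forceH_eq, cnd_tt, cnd_tt, cnd_tt, allN_iff, beq_tt, beq_tt, ble_tt, shr_eq, Nat.shiftRight_eq_div_pow,
    Nat.div_eq_zero_iff_lt (by positivity)] at h1
  refine ⟨h1.1, h1.2.1, ?_, fun l hl => ?_⟩
  · rw [← show _ = nth 0 ψ (28 + k) from h1.2.2.1]
    exact (ZMod.natCast_mod _ _).trans (Nat.cast_mul _ _)
  · have h2 := h1.2.2.2 l hl
    rw [forceH_eq, cnd_tt, beq_tt, beq_tt] at h2
    refine Zsqrtd.ext ?_ ?_
    · rw [re_vecT, h2.1, cnd_eq]
      simp only [beq_tt]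
      split_ifs <;> rfl
    · rw [im_vecT, h2.2, sub_self]; split_ifs <;> rfl

/-- test of the table of a linear map. -/
noncomputable def genB (ψ : List ℕ) (K : ℕ) : Bool := genG MM YY OO KK ψ K

theorem of_genB {ψ : List ℕ} {K : ℕ} (h : genB ψ K = true) :
    (∀ x, ruNorm (lmap ψ x) = 16 * ruNorm x) ∧ ∀ T, phi (lmap ψ (vecT T)) = lin ψ T K := by
  obtain ⟨h1, h4, h3⟩ := of_genG h
  refine ⟨hp_comb fun k l => ?_, fun T => ?_⟩
  · rw [frm, frm, (h3 _ (idx_lt k)).2.2.2 _ (idx_lt l)]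
    exact if_congr ⟨fun e => by rw [← ix_idx k, e, ix_idx], congrArg idx⟩ rfl rfl
  · have h5 : ∀ j < 56, look OO 8 j = 1 := by decide +kernel
    rw [lin_eq, sum_congr rfl fun j hj => by rw [h5 j (mem_range.1 hj)]] at h4
    rw [lin_eq, lmap, Fintype.linearCombination_apply, map_sum, sum_ix]
    push_cast at h4 ⊢
    rw [sum56] at h4 ⊢
    rw [zero_add, mul_sum, ← eq_neg_iff_add_eq_zero] at h4
    rw [h4, neg_add_eq_sub, ← sum_sub_distrib]
    refine sum_congr rfl fun j hj => ?_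
    have hj := mem_range.1 hj
    obtain ⟨a, b, c', -⟩ := h3 j hj
    rw [phi_smul, frm, idx_ix hj, phi_vecT b, c', Nat.sub_eq, Nat.cast_sub a, ← rc_lo _ hj, ← rc_hi,
      rc_vecT T (by omega), rc_vecT T (by omega)]
    push_cast; ring

/-- the map carries the vector with code `a` to a unit multiple of the vector with code `b`. -/
noncomputable def mapB (ψ : List ℕ) (K a b : ℕ) : Bool :=
  force (Nat.mod (lin ψ a K) MM) fun r => force (Nat.mod (Nat.mul 4 (Nat.add b KK)) MM) fun s => cnd (Nat.beq r s) true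
    (force (Nat.mod (Nat.mul s YY) MM) fun s => cnd (Nat.beq r s) true
      (force (Nat.mod (Nat.mul s YY) MM) fun s => cnd (Nat.beq r s) true (Nat.beq r (Nat.mod (Nat.mul s YY) MM))))

theorem mapB_gen {M Y r s : ℕ} (e : (force (Nat.mod r M) fun r => force (Nat.mod s M) fun s => cnd (Nat.beq r s) true
    (force (Nat.mod (Nat.mul s Y) M) fun s => cnd (Nat.beq r s) true
      (force (Nat.mod (Nat.mul s Y) M) fun s => cnd (Nat.beq r s) true (Nat.beq r (Nat.mod (Nat.mul s Y) M))))) = true) :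
    ∃ k : ℕ, (r : ZMod M) = s * Y ^ k := by
  have c : ∀ {u v : ℕ}, Nat.beq (Nat.mod u M) (Nat.mod v M) = true → (u : ZMod M) = v := fun h =>
    (ZMod.natCast_eq_natCast_iff' _ _ _).2 (beq_tt.1 h)
  have d : ∀ u : ℕ, (Nat.mod u M : ZMod M) = u := fun u => ZMod.natCast_mod _ _
  simp only [force_eq, cnd_eq] at e
  split_ifs at e with e0 e1 e2
  · exact ⟨0, by rw [c e0]; simp⟩
  · exact ⟨1, by rw [c e1]; simp [d]⟩
  · exact ⟨2, by rw [c e2]; simp [d, pow_succ, mul_assoc]⟩
  · exact ⟨3, by rw [c e]; simp [d, pow_succ, mul_assoc]⟩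

theorem mapB_aux {ψ : List ℕ} {K a b : ℕ} (e : mapB ψ K a b = true) :
    ∃ k : ℕ, (lin ψ a K : ZMod MM) = 4 * (b + KK) * YY ^ k := by
  obtain ⟨k, e⟩ := mapB_gen e
  refine ⟨k, e.trans ?_⟩
  rw [Nat.mul_eq, Nat.add_eq, Nat.cast_mul, Nat.cast_add, Nat.cast_ofNat]

theorem of_mapB {ψ : List ℕ} {K a b : ℕ} (h : genB ψ K = true) (ha : codeB a = true) (hb : codeB b = true)
    (e : mapB ψ K a b = true) : ∃ k : ℕ, lmap ψ (vecT a) = (4 : GaussianInt) • gI ^ k • vecT b := by
  obtain ⟨h1, h2⟩ := of_genB h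
  have key : ∀ k : ℕ, (lin ψ a K : ZMod MM) = 4 * (b + KK) * YY ^ k →
      ∃ k : ℕ, lmap ψ (vecT a) = (4 : GaussianInt) • gI ^ k • vecT b := fun k e => by
    refine ⟨k, sub_eq_zero.1 (phi_inj ?_ ?_)⟩
    · have a1 := norm_add (lmap ψ (vecT a)) ((-1 : GaussianInt) • ((4 : GaussianInt) • gI ^ k • vecT b))
      have a2 := norm_add (lmap ψ (vecT a)) ((4 : GaussianInt) • gI ^ k • vecT b)
      have a3 := norm_nonneg' (lmap ψ (vecT a) + (4 : GaussianInt) • gI ^ k • vecT b)
      rw [hp_smul_right, norm_smul', neg_one_smul, ← sub_eq_add_neg] at a1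
      rw [norm_smul', norm_unit, h1, (of_codeB ha).2, (of_codeB hb).2, show (4 : GaussianInt).norm = 16 by decide]
        at a1 a2
      simp at a1 a2
      omega
    · rw [map_sub, h2, e, phi_smul, phi_unit, phi_vecT (of_codeB hb).1]
      simp; ring
  obtain ⟨k, e⟩ := mapB_aux e
  exact key k e

end Cfsg.Lib.RuL
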